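import Groth.Agent.RegIdeal.Quasi
import Groth.Prelude.Def_CInt
import Mathlib.RingTheory.LocalRing.MaximalIdeal.Basic
import Mathlib.RingTheory.Ideal.Cotangent

/-!
Regular sequences in Noetherian local rings: exchange of generators.
-/

set_option autoImplicit false
universe u

namespace Groth.Agent.RegIdeal

open MvPolynomial RingTheory.Sequence IsLocalRing

variable {A : Type u} [CommRing A]

theorem wReg_of_isQuasiRegular : ∀ (c : ℕ) (A : Type u) [CommRing A] [IsNoetherianRing A]
    (f : Fin c → A), (∀ i, f i ∈ Ring.jacobson A) → CAlgX.IsQuasiRegular f → WReg f := by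
  intro c
  induction c with
  | zero => intro A _ _ f _ _ i; exact i.elim0
  | succ c ih =>
    intro A _ _ f hf hq i
    set π := Ideal.Quotient.mk (Ideal.span {f 0}) with hπ
    cases i using Fin.cases with
    | zero =>
      intro x hx
      have he : f '' Set.Iio (0 : Fin (c + 1)) = ∅ := by
        rw [Set.image_eq_empty]
        ext j
        simp
      rw [he, Ideal.span_empty, Submodule.mem_bot] at hx ⊢
      exact smul_regular_of_isQuasiRegular f
        (Ideal.span_le.mpr (by rintro _ ⟨j, rfl⟩; exact hf j)) hq 0 hx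
    | succ i =>
      intro x hx
      have hf' : ∀ j : Fin c, π (f j.succ) ∈ Ring.jacobson (A ⧸ Ideal.span {f 0}) := by
        intro j
        have h := hf j.succ
        rw [← Ideal.jacobson_bot, Ideal.mem_jacobson_bot] at h ⊢
        intro y
        obtain ⟨y, rfl⟩ := Ideal.Quotient.mk_surjective y
        rw [← map_mul, ← map_one π, ← map_add]
        exact (h y).map π
      have hW := ih _ (fun j => π (f j.succ)) hf' (isQuasiRegular_mod_head f hq) i (π x)
      have he : Ideal.span (f '' Set.Iio i.succ) =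
          Ideal.span {f 0} ⊔ Ideal.span ((fun j : Fin c => f j.succ) '' Set.Iio i) := by
        rw [← Ideal.span_union]
        congr 1
        ext y
        constructor
        · rintro ⟨j, hj, rfl⟩
          cases j using Fin.cases with
          | zero => exact Or.inl rfl
          | succ j => exact Or.inr ⟨j, Fin.succ_lt_succ_iff.mp hj, rfl⟩
        · rintro (rfl | ⟨j, hj, rfl⟩)
          · exact ⟨0, Fin.succ_pos i, rfl⟩
          · exact ⟨j.succ, Fin.succ_lt_succ_iff.mpr hj, rfl⟩
      have hmap : (Ideal.span (f '' Set.Iio i.succ)).map π =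
          Ideal.span ((fun j : Fin c => π (f j.succ)) '' Set.Iio i) := by
        rw [he, Ideal.map_sup, Ideal.map_quotient_self, bot_sup_eq, Ideal.map_span, ← Set.image_comp]
        rfl
      have hle : Ideal.span {f 0} ≤ Ideal.span (f '' Set.Iio i.succ) := he ▸ le_sup_left
      have hmem : π x ∈ (Ideal.span (f '' Set.Iio i.succ)).map π := by
        rw [hmap]
        refine hW ?_
        rw [← hmap, ← map_mul]
        exact Ideal.mem_map_of_mem π hx
      have := Ideal.mem_comap.mpr hmem
      rwa [Ideal.comap_map_of_surjective' π Ideal.Quotient.mk_surjective, Ideal.mk_ker,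
        sup_eq_left.mpr hle] at this

theorem coeff_mem_of_sum_eq_zero {c : ℕ} {f : Fin c → A} (hq : CAlgX.IsQuasiRegular f)
    (a : Fin c → A) (h : ∑ i, a i * f i ∈ Ideal.span (Set.range f) ^ 2) (i : Fin c) :
    a i ∈ Ideal.span (Set.range f) := by
  classical
  have := hq 1 (∑ l, MvPolynomial.C (a l) * MvPolynomial.X l)
    (IsHomogeneous.sum _ _ _ fun l _ => (isHomogeneous_X A l).C_mul _)
    (by simpa [map_sum] using h) (Finsupp.single i 1)
  rwa [coeff_sum, Finset.sum_eq_single i (fun l _ hl => by
    rw [coeff_C_mul, coeff_X, if_neg (fun he => hl (Finsupp.single_left_injective one_ne_zero he)),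
      mul_zero]) (by simp), coeff_C_mul, coeff_X, if_pos rfl, mul_one] at this

section list

theorem span_range_get (rs : List A) :
    Ideal.span (Set.range fun i : Fin rs.length => rs.get i) = Ideal.ofList rs := by
  rw [Ideal.ofList, Set.range_list_get]

variable [IsLocalRing A] [IsNoetherianRing A]

theorem isWeaklyRegular_of_ofList_eq {rs ss : List A} (hr : IsWeaklyRegular A rs)
    (hlen : ss.length = rs.length) (heq : Ideal.ofList ss = Ideal.ofList rs)
    (hm : Ideal.ofList rs ≤ maximalIdeal A) : IsWeaklyRegular A ss := by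
  have h1 : WReg (fun i : Fin rs.length => rs.get i) := (wReg_iff _).mpr (by rwa [List.ofFn_get])
  let f' : Fin rs.length → A := fun i => ss.get (i.cast hlen.symm)
  have h2 : Ideal.span (Set.range f') = Ideal.ofList rs := by
    rw [← heq, ← span_range_get ss]
    congr 1
    exact (finCongr hlen.symm).surjective.range_comp _
  have hjac : ∀ i, f' i ∈ Ring.jacobson A := fun i => by
    have h3 : f' i ∈ maximalIdeal A := hm (h2 ▸ Ideal.subset_span ⟨i, rfl⟩)
    rwa [IsLocalRing.ringJacobson_eq_maximalIdeal]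
  have h4 := (wReg_iff f').mp (wReg_of_isQuasiRegular _ A f' hjac
    (isQuasiRegular_of_span_eq _ f' (isQuasiRegular_of_wReg h1) (h2.trans (span_range_get rs).symm)))
  have : List.ofFn f' = ss := by
    apply List.ext_getElem
    · simp [hlen]
    · intro i h h'; simp [f']
  rwa [this] at h4

theorem isRegularIdeal_of_isWeaklyRegular {rs : List A} {I : Ideal A}
    (hr : IsWeaklyRegular A rs) (hI : Ideal.ofList rs = I) (hm : I ≤ maximalIdeal A) :
    CInt.IsRegularIdeal I :=
  ⟨rs, IsRegular.of_isWeaklyRegular_of_mem_maximalIdeal A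
    (fun _ hx => hm (hI ▸ Ideal.subset_span hx)) hr, hI⟩

omit [IsNoetherianRing A] in
theorem quot_isWeaklyRegular_iff (J : Ideal A) (rs : List A) :
    IsWeaklyRegular (A ⧸ J • (⊤ : Submodule A A)) rs ↔
      IsWeaklyRegular (A ⧸ J) (rs.map (Ideal.Quotient.mk J)) := by
  rw [(Submodule.quotEquivOfEq _ J (by rw [smul_eq_mul, Ideal.mul_top])).isWeaklyRegular_congr,
    ← isWeaklyRegular_map_algebraMap_iff (A ⧸ J) (A ⧸ J) rs]
  rfl

omit [IsNoetherianRing A] in
theorem isWeaklyRegular_append_iff_quot (rs ss : List A) :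
    IsWeaklyRegular A (rs ++ ss) ↔ IsWeaklyRegular A rs ∧
      IsWeaklyRegular (A ⧸ Ideal.ofList rs) (ss.map (Ideal.Quotient.mk (Ideal.ofList rs))) := by
  rw [isWeaklyRegular_append_iff, quot_isWeaklyRegular_iff]

/-- No element of a regular sequence is in the ideal of the others. -/
theorem notMem_of_isWeaklyRegular {pre post : List A} {w : A}
    (hr : IsWeaklyRegular A (pre ++ w :: post))
    (hm : Ideal.ofList (pre ++ w :: post) ≤ maximalIdeal A) : w ∉ Ideal.ofList (pre ++ post) := by
  intro hw
  have heq : Ideal.ofList (pre ++ post ++ [w]) = Ideal.ofList (pre ++ w :: post) := by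
    simp only [Ideal.ofList_append, Ideal.ofList_cons, Ideal.ofList_nil, sup_bot_eq]
    ac_rfl
  have h := ((isWeaklyRegular_append_iff_quot (pre ++ post) [w]).mp
    (isWeaklyRegular_of_ofList_eq hr (by simp [Nat.add_assoc]) heq hm)).2
  rw [List.map_cons, List.map_nil, isWeaklyRegular_singleton_iff,
    Ideal.Quotient.eq_zero_iff_mem.mpr hw] at h
  have h1 : (1 : A ⧸ Ideal.ofList (pre ++ post)) = 0 := h (by simp)
  rw [← map_one (Ideal.Quotient.mk _), Ideal.Quotient.eq_zero_iff_mem] at h1
  refine (maximalIdeal.isMaximal A).ne_top ((Ideal.eq_top_iff_one _).mpr (hm ?_))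
  have hle : Ideal.ofList (pre ++ post) ≤ Ideal.ofList (pre ++ w :: post) := by
    rw [← heq, Ideal.ofList_append (pre ++ post)]
    exact le_sup_left
  exact hle h1

omit [IsNoetherianRing A] in
/-- Exchange lemma. -/
theorem exists_exchange (P : Ideal A) : ∀ (ys : List A) (z : A), z ∈ P ⊔ Ideal.ofList ys →
    z ∉ P ⊔ maximalIdeal A * Ideal.ofList ys →
    ∃ l₁ w l₂, ys = l₁ ++ w :: l₂ ∧ w ∈ P ⊔ Ideal.ofList (z :: (l₁ ++ l₂)) := by
  intro ys
  induction ys with
  | nil => intro z hz hz'; exact absurd (by simpa using hz) (by simpa using hz')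
  | cons w l ih =>
    intro z hz hz'
    rw [Ideal.ofList_cons] at hz hz'
    obtain ⟨u, hu, v, hv, rfl⟩ := Submodule.mem_sup.mp hz
    obtain ⟨v₁, hv₁, v₂, hv₂, rfl⟩ := Submodule.mem_sup.mp hv
    obtain ⟨c, rfl⟩ := Ideal.mem_span_singleton'.mp hv₁
    by_cases hc : IsUnit c
    · refine ⟨[], w, l, rfl, ?_⟩
      suffices h : (↑hc.unit⁻¹ : A) * (c * w) ∈ P ⊔ Ideal.ofList ((u + (c * w + v₂)) :: ([] ++ l)) by
        rwa [← mul_assoc, hc.val_inv_mul, one_mul] at h
      refine Ideal.mul_mem_left _ _ ?_
      rw [List.nil_append, Ideal.ofList_cons]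
      have key : (u + (c * w + v₂)) - u - v₂ ∈
          P ⊔ (Ideal.span {u + (c * w + v₂)} ⊔ Ideal.ofList l) :=
        sub_mem (sub_mem
          (Ideal.mem_sup_right (Ideal.mem_sup_left (Ideal.mem_span_singleton_self _)))
          (Ideal.mem_sup_left hu)) (Ideal.mem_sup_right (Ideal.mem_sup_right hv₂))
      have e : u + (c * w + v₂) - u - v₂ = c * w := by ring
      rwa [e] at key
    · have hcm : c * w ∈ maximalIdeal A * (Ideal.span {w} ⊔ Ideal.ofList l) :=
        Ideal.mul_mem_mul ((IsLocalRing.mem_maximalIdeal c).mpr hc)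
          (Ideal.mem_sup_left (Ideal.mem_span_singleton_self w))
      obtain ⟨l₁, w', l₂, hl, hw'⟩ := ih (u + v₂) (Submodule.mem_sup.mpr ⟨u, hu, v₂, hv₂, rfl⟩)
        (fun h => hz' (by
          rw [show u + (c * w + v₂) = (u + v₂) + c * w by ring]
          exact add_mem ((sup_le_sup_left (Ideal.mul_mono_right le_sup_right) P) h)
            (Ideal.mem_sup_right hcm)))
      refine ⟨w :: l₁, w', l₂, by rw [hl, List.cons_append], ?_⟩
      refine (sup_le le_sup_left ?_ : P ⊔ Ideal.ofList ((u + v₂) :: (l₁ ++ l₂)) ≤ _) hw'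
      rw [Ideal.ofList_cons, Ideal.ofList_cons, List.cons_append, Ideal.ofList_cons]
      refine sup_le (le_sup_of_le_right ?_) (le_sup_of_le_right (le_sup_of_le_right le_sup_right))
      rw [Ideal.span_singleton_le_iff_mem,
        show u + v₂ = (u + (c * w + v₂)) - c * w by ring]
      exact sub_mem (Ideal.mem_sup_left (Ideal.mem_span_singleton_self _))
        (Ideal.mem_sup_right (Ideal.mem_sup_left (Ideal.mul_mem_left _ _
          (Ideal.mem_span_singleton_self _))))

omit [IsNoetherianRing A] in
/-- Insert `z` into a list of generators. -/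
theorem exists_insert {K : Ideal A} {pre rest : List A} (hK : Ideal.ofList (pre ++ rest) = K)
    {z : A} (hz : z ∈ K) (hz' : z ∉ Ideal.ofList pre ⊔ maximalIdeal A * K) :
    ∃ rest' : List A, rest'.length + 1 = rest.length ∧
      Ideal.ofList (pre ++ [z] ++ rest') = K := by
  rw [Ideal.ofList_append] at hK
  obtain ⟨l₁, w, l₂, rfl, hw⟩ := exists_exchange (Ideal.ofList pre) rest z (hK ▸ hz) fun h =>
    hz' ((sup_le le_sup_left (le_sup_of_le_right (Ideal.mul_mono_right (hK ▸ le_sup_right))) :
      Ideal.ofList pre ⊔ maximalIdeal A * Ideal.ofList rest ≤ _) h)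
  have hzz : z ∈ Ideal.ofList pre ⊔ Ideal.ofList (l₁ ++ w :: l₂) := hK ▸ hz
  refine ⟨l₁ ++ l₂, by simp [Nat.add_assoc], le_antisymm ?_ ?_⟩
  · rw [← hK]
    simp only [Ideal.ofList_append, Ideal.ofList_cons, Ideal.ofList_nil]
    refine sup_le (sup_le le_sup_left (sup_le ?_ bot_le)) (sup_le ?_ ?_)
    · rw [Ideal.span_singleton_le_iff_mem]
      simpa only [Ideal.ofList_append, Ideal.ofList_cons] using hzz
    · exact le_sup_of_le_right le_sup_left
    · exact le_sup_of_le_right (le_sup_of_le_right le_sup_right)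
  · rw [← hK]
    simp only [Ideal.ofList_append, Ideal.ofList_cons, Ideal.ofList_nil, sup_bot_eq] at hw ⊢
    refine sup_le (le_sup_of_le_left le_sup_left) (sup_le (le_sup_of_le_right le_sup_left)
      (sup_le ?_ (le_sup_of_le_right le_sup_right)))
    rw [Ideal.span_singleton_le_iff_mem]
    rwa [sup_assoc]

theorem eq_of_le_sup_mul {J J' : Ideal A} (hJ : J' ≤ J) {I : Ideal A} (hI : I ≤ maximalIdeal A)
    (h : J ≤ J' ⊔ I * J) : J = J' :=
  le_antisymm (Submodule.le_of_le_smul_of_le_jacobson_bot (IsNoetherian.noetherian J)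
    (hI.trans (IsLocalRing.maximalIdeal_le_jacobson _)) h) hJ

/-- If `ys` is regular modulo `J` then adjoining it to a subideal detects equality. -/
theorem eq_of_regular_quot : ∀ (ys : List A) (J J' : Ideal A), J' ≤ J →
    IsWeaklyRegular (A ⧸ J • (⊤ : Submodule A A)) ys → Ideal.ofList ys ≤ maximalIdeal A →
    J ≤ J' ⊔ Ideal.ofList ys → J = J' := by
  intro ys
  induction ys using List.reverseRecOn with
  | nil => intro J J' hle _ _ h; exact le_antisymm (by simpa using h) hle
  | append_singleton init y ih =>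
    intro J J' hle hr hm h
    rw [Ideal.ofList_append, Ideal.ofList_singleton] at hm h
    rw [List.concat_eq_append.symm.trans List.concat_eq_append, isWeaklyRegular_append_iff,
      isWeaklyRegular_singleton_iff] at hr
    refine ih J J' hle hr.1 (le_sup_left.trans hm) ?_
    have key : J ⊔ Ideal.ofList init = J' ⊔ Ideal.ofList init := by
      refine eq_of_le_sup_mul (sup_le_sup_right hle _)
        (le_sup_right.trans hm : Ideal.span {y} ≤ _) ?_
      refine sup_le (fun j hj => ?_) (le_sup_of_le_left le_sup_right)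
      obtain ⟨a, ha, b, hb, rfl⟩ :=
        Submodule.mem_sup.mp ((h.trans (sup_assoc _ _ _).ge) hj)
      obtain ⟨t, rfl⟩ := Ideal.mem_span_singleton'.mp hb
      refine add_mem (Ideal.mem_sup_left ha) (Ideal.mem_sup_right ?_)
      rw [mul_comm t y]
      refine Ideal.mul_mem_mul (Ideal.mem_span_singleton_self y) ?_
      have hyt : y * t ∈ J ⊔ Ideal.ofList init := by
        rw [show y * t = (a + t * y) - a by ring]
        exact sub_mem (Ideal.mem_sup_left hj) (sup_le_sup_right hle _ ha)
      have hz : (Submodule.Quotient.mk (Submodule.Quotient.mk t) :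
          (A ⧸ J • (⊤ : Submodule A A)) ⧸ Ideal.ofList init • (⊤ : Submodule A _)) = 0 := by
        refine hr.2 ?_
        simp only [← Submodule.Quotient.mk_smul, smul_zero, Submodule.Quotient.mk_eq_zero]
        obtain ⟨p, hp, q, hq, hpq⟩ := Submodule.mem_sup.mp hyt
        rw [show y • t = y * t from rfl, ← hpq, Submodule.Quotient.mk_add,
          (Submodule.Quotient.mk_eq_zero _).mpr (by simpa using hp), zero_add,
          show (q : A) = q • (1 : A) by simp, Submodule.Quotient.mk_smul]
        exact Submodule.smul_mem_smul hq Submodule.mem_top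
      rw [Submodule.Quotient.mk_eq_zero] at hz
      have hz' : Ideal.ofList init • (⊤ : Submodule A (A ⧸ J • (⊤ : Submodule A A))) ≤
          Submodule.map (J • (⊤ : Submodule A A)).mkQ (J ⊔ Ideal.ofList init) := by
        rw [Submodule.smul_le]
        intro r hr x _
        obtain ⟨x, rfl⟩ := Submodule.Quotient.mk_surjective _ x
        exact ⟨r • x, Ideal.mul_mem_right _ _ (Ideal.mem_sup_right hr), rfl⟩
      obtain ⟨s, hs, hst⟩ := hz' hz
      have hd : s - t ∈ J • (⊤ : Submodule A A) := (Submodule.Quotient.eq _).mp hst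
      rw [smul_eq_mul, Ideal.mul_top] at hd
      simpa using sub_mem hs (Ideal.mem_sup_left hd)
    exact le_sup_left.trans key.le

theorem le_maximalIdeal_of_isRegularIdeal_map {J K : Ideal A} (hK : K ≤ maximalIdeal A)
    {ys : List A} (hys : Ideal.ofList (ys.map (Ideal.Quotient.mk J)) = K.map (Ideal.Quotient.mk J))
    (hJK : J ≤ K) : J ⊔ Ideal.ofList ys = K ∧ Ideal.ofList ys ≤ maximalIdeal A := by
  have h := congrArg (Ideal.comap (Ideal.Quotient.mk J)) hys
  rw [← Ideal.map_ofList, Ideal.comap_map_of_surjective' _ Ideal.Quotient.mk_surjective,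
    Ideal.comap_map_of_surjective' _ Ideal.Quotient.mk_surjective, Ideal.mk_ker,
    sup_eq_left.mpr hJK, sup_comm] at h
  exact ⟨h, (le_sup_right.trans h.le).trans hK⟩

omit [IsLocalRing A] [IsNoetherianRing A] in
theorem exists_map_eq {J : Ideal A} (l : List (A ⧸ J)) :
    ∃ ys : List A, ys.map (Ideal.Quotient.mk J) = l :=
  List.map_surjective_iff.mpr Ideal.Quotient.mk_surjective l

theorem isRegularIdeal_of_quot (J K : Ideal A) (hJK : J ≤ K) (hK : K ≤ maximalIdeal A)
    (hJ : CInt.IsRegularIdeal J) (hKJ : CInt.IsRegularIdeal (K.map (Ideal.Quotient.mk J))) :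
    CInt.IsRegularIdeal K := by
  obtain ⟨rs, hrs, rfl⟩ := hJ
  obtain ⟨ys', hys, hys'⟩ := hKJ
  obtain ⟨ys, rfl⟩ := exists_map_eq ys'
  refine isRegularIdeal_of_isWeaklyRegular (rs := rs ++ ys)
    ((isWeaklyRegular_append_iff_quot rs ys).mpr ⟨hrs.toIsWeaklyRegular, hys.toIsWeaklyRegular⟩) ?_ hK
  rw [Ideal.ofList_append]
  exact (le_maximalIdeal_of_isRegularIdeal_map hK hys' hJK).1

/-- Extend a list inside `J` as far as possible inside a regular generating list of `K`. -/
theorem exists_fill {J K : Ideal A} (hJK : J ≤ K) : ∀ (n : ℕ) (pre rest : List A),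
    rest.length = n → Ideal.ofList (pre ++ rest) = K →
    ∃ xs rest', (∀ x ∈ xs, x ∈ J) ∧ (pre ++ xs ++ rest').length = (pre ++ rest).length ∧
      Ideal.ofList (pre ++ xs ++ rest') = K ∧
      J ≤ Ideal.ofList (pre ++ xs) ⊔ maximalIdeal A * K := by
  intro n
  induction n with
  | zero =>
    intro pre rest hlen hK
    refine ⟨[], rest, by simp, by simp, by simpa using hK, ?_⟩
    rw [List.eq_nil_of_length_eq_zero hlen, List.append_nil] at hK
    rw [List.append_nil, hK]
    exact le_sup_of_le_left hJK
  | succ n ih =>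
    intro pre rest hlen hK
    by_cases hcase : J ≤ Ideal.ofList pre ⊔ maximalIdeal A * K
    · exact ⟨[], rest, by simp, by simp, by simpa using hK, by simpa using hcase⟩
    obtain ⟨z, hz, hz'⟩ := SetLike.not_le_iff_exists.mp hcase
    obtain ⟨rest', hlen', hK'⟩ := exists_insert hK (hJK hz) hz'
    obtain ⟨xs, rest'', hxs, hlen'', hK'', hJ''⟩ := ih (pre ++ [z]) rest' (by omega) hK'
    refine ⟨z :: xs, rest'', by simpa using ⟨hz, hxs⟩, ?_, by simpa using hK'', by simpa using hJ''⟩
    simp only [List.length_append, List.length_cons, List.length_nil] at hlen'' ⊢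
    omega

theorem exists_insert_quot {J K : Ideal A} (hJK : J ≤ K) (hK : K ≤ maximalIdeal A)
    (rs : List A) (hrs : Ideal.ofList rs = K) :
    ∀ (ys tail : List A),
    IsWeaklyRegular (A ⧸ J) ((ys ++ tail).map (Ideal.Quotient.mk J)) →
    J ⊔ Ideal.ofList (ys ++ tail) = K →
    ∃ rest, (ys ++ rest).length = rs.length ∧ Ideal.ofList (ys ++ rest) = K := by
  intro ys
  induction ys using List.reverseRecOn with
  | nil => intro tail _ _; exact ⟨rs, by simp, by simpa using hrs⟩
  | append_singleton init y ih =>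
    intro tail hreg hgen
    rw [List.append_assoc, List.singleton_append] at hreg hgen
    obtain ⟨rest, hlen, hrest⟩ := ih (y :: tail) hreg hgen
    haveI : Nontrivial (A ⧸ J) := Ideal.Quotient.nontrivial_iff.mpr
      (ne_top_of_le_ne_top (maximalIdeal.isMaximal A).ne_top (hJK.trans hK))
    haveI : IsLocalRing (A ⧸ J) :=
      IsLocalRing.of_surjective' (Ideal.Quotient.mk J) Ideal.Quotient.mk_surjective
    haveI : IsLocalHom (Ideal.Quotient.mk J) :=
      IsLocalHom.of_surjective _ Ideal.Quotient.mk_surjective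
    have hmaxmap : (maximalIdeal A).map (Ideal.Quotient.mk J) ≤ maximalIdeal (A ⧸ J) :=
      ((IsLocalRing.local_hom_TFAE (Ideal.Quotient.mk J)).out 0 2).mp ‹IsLocalHom (Ideal.Quotient.mk J)›
    have hgen' : Ideal.ofList ((init ++ y :: tail).map (Ideal.Quotient.mk J)) =
        K.map (Ideal.Quotient.mk J) := by
      rw [← Ideal.map_ofList, ← hgen, Ideal.map_sup, Ideal.map_quotient_self, bot_sup_eq]
    have hle : Ideal.ofList ((init ++ y :: tail).map (Ideal.Quotient.mk J)) ≤ maximalIdeal (A ⧸ J) :=
      hgen'.le.trans ((Ideal.map_mono hK).trans hmaxmap)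
    have hnot : y ∉ Ideal.ofList init ⊔ maximalIdeal A * K := by
      intro hy
      have h1 := Ideal.mem_map_of_mem (Ideal.Quotient.mk J) hy
      rw [Ideal.map_sup, Ideal.map_mul, ← hgen', Ideal.map_ofList, List.map_append, List.map_cons,
        Ideal.ofList_append, Ideal.ofList_cons] at h1
      set O := Ideal.ofList ((init.map (Ideal.Quotient.mk J)) ++ tail.map (Ideal.Quotient.mk J))
      have h2 : Ideal.Quotient.mk J y ∈ O ⊔ maximalIdeal (A ⧸ J) * Ideal.span {Ideal.Quotient.mk J y} := by
        refine (sup_le (le_sup_of_le_left (by simp only [O, Ideal.ofList_append]; exact le_sup_left))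
          ((Ideal.mul_mono_left hmaxmap).trans ?_) : _ ≤ _) h1
        rw [Ideal.mul_sup, Ideal.mul_sup]
        refine sup_le (le_sup_of_le_left ?_) (sup_le le_sup_right (le_sup_of_le_left ?_))
        · exact Ideal.mul_le_right.trans (by simp only [O, Ideal.ofList_append]; exact le_sup_left)
        · exact Ideal.mul_le_right.trans (by simp only [O, Ideal.ofList_append]; exact le_sup_right)
      obtain ⟨o, ho, v, hv, hov⟩ := Submodule.mem_sup.mp h2
      obtain ⟨c, hc, rfl⟩ := Ideal.mem_mul_span_singleton.mp hv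
      have hu : IsUnit (1 - c) :=
        (IsLocalRing.isUnit_or_isUnit_one_sub_self c).resolve_left ((IsLocalRing.mem_maximalIdeal c).mp hc)
      rw [List.map_append, List.map_cons] at hreg hle
      refine notMem_of_isWeaklyRegular hreg hle ?_
      rw [show Ideal.Quotient.mk J y = (↑hu.unit⁻¹ : A ⧸ J) * o by
        rw [show o = (1 - c) * Ideal.Quotient.mk J y by linear_combination hov, ← mul_assoc,
          hu.val_inv_mul, one_mul]]
      exact Ideal.mul_mem_left _ _ ho
    obtain ⟨rest', hlen', hrest'⟩ := exists_insert hrest (z := y) (by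
      rw [← hgen]
      exact Ideal.mem_sup_right (Ideal.subset_span (by simp))) hnot
    refine ⟨rest', ?_, hrest'⟩
    simp only [List.length_append, List.length_cons, List.length_nil] at hlen ⊢
    omega

theorem isRegularIdeal_of_regular_of_quot (J K : Ideal A) (hJK : J ≤ K) (hK : K ≤ maximalIdeal A)
    (hKreg : CInt.IsRegularIdeal K) (hKJ : CInt.IsRegularIdeal (K.map (Ideal.Quotient.mk J))) :
    CInt.IsRegularIdeal J := by
  obtain ⟨rs, hrs, hrsK⟩ := hKreg
  obtain ⟨ys', hys, hys'⟩ := hKJ
  obtain ⟨ys, rfl⟩ := exists_map_eq ys'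
  obtain ⟨hgen, hym⟩ := le_maximalIdeal_of_isRegularIdeal_map hK hys' hJK
  obtain ⟨rest, hlen, hrest⟩ := exists_insert_quot hJK hK rs hrsK ys []
    (by simpa using hys.toIsWeaklyRegular) (by simpa using hgen)
  obtain ⟨xs, rest', hxs, hlen', hK', hJle⟩ := exists_fill hJK _ ys rest rfl hrest
  have hxJ : Ideal.ofList xs ≤ J := Ideal.span_le.mpr hxs
  have hKle : Ideal.ofList (ys ++ xs) = K := by
    refine (eq_of_le_sup_mul (le_of_le_of_eq ?_ hK') (le_refl (maximalIdeal A)) ?_).symm
    · rw [Ideal.ofList_append (ys ++ xs)]; exact le_sup_left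
    · conv_lhs => rw [← hgen]
      refine sup_le hJle (le_sup_of_le_left ?_)
      rw [Ideal.ofList_append]; exact le_sup_left
  have hreg : IsWeaklyRegular A (ys ++ xs ++ rest') :=
    isWeaklyRegular_of_ofList_eq hrs.toIsWeaklyRegular (hlen'.trans hlen) (hK'.trans hrsK.symm)
      (hrsK ▸ hK)
  cases rest' with
  | nil =>
    rw [List.append_nil] at hreg
    have hperm : IsWeaklyRegular A (xs ++ ys) := isWeaklyRegular_of_ofList_eq hreg
      (by simp [Nat.add_comm]) (by rw [Ideal.ofList_append, Ideal.ofList_append, sup_comm]) (hKle ▸ hK)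
    have hJeq : J = Ideal.ofList xs := by
      refine eq_of_regular_quot ys J _ hxJ ((quot_isWeaklyRegular_iff J ys).mpr hys.toIsWeaklyRegular)
        hym ?_
      refine hJK.trans (le_of_eq ?_)
      rw [← hKle, Ideal.ofList_append, sup_comm]
    exact isRegularIdeal_of_isWeaklyRegular ((isWeaklyRegular_append_iff_quot xs ys).mp hperm).1
      hJeq.symm (hJK.trans hK)
  | cons w l =>
    refine absurd ?_ (notMem_of_isWeaklyRegular hreg (hK'.symm ▸ hK))
    rw [Ideal.ofList_append]
    refine Ideal.mem_sup_left ?_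
    rw [hKle, ← hK']
    exact Ideal.subset_span (by simp)

end list

end Groth.Agent.RegIdeal
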