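import Groth.Prelude.Def_CAlgX
import Groth.Agent.RegLoc.QuasiRegular
import Mathlib.RingTheory.Regular.RegularSequence
import Mathlib.RingTheory.Filtration
import Mathlib.RingTheory.MvPolynomial.Homogeneous

/-!
Regular sequences and quasi-regular sequences.
-/

set_option autoImplicit false
universe u

namespace Groth.Agent.RegIdeal

open MvPolynomial
open Groth.Agent.RegLoc (exists_homogeneous_eval)

variable {A : Type u} [CommRing A]

/-- Each term is a nonzerodivisor modulo the previous ones. -/
def WReg {c : ℕ} (f : Fin c → A) : Prop :=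
  ∀ i x, f i * x ∈ Ideal.span (f '' Set.Iio i) → x ∈ Ideal.span (f '' Set.Iio i)

theorem wReg_iff {c : ℕ} (f : Fin c → A) :
    WReg f ↔ RingTheory.Sequence.IsWeaklyRegular A (List.ofFn f) := by
  have key : ∀ (i : Fin c), Ideal.ofList ((List.ofFn f).take i) • (⊤ : Submodule A A) =
      Ideal.span (f '' Set.Iio i) := by
    intro i
    rw [smul_eq_mul, Ideal.mul_top, Ideal.ofList]
    congr 1
    ext y
    simp only [Set.mem_image, Set.mem_Iio, Set.mem_ofPred_eq, List.mem_take_iff_getElem,
      List.getElem_ofFn, List.length_ofFn]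
    constructor
    · rintro ⟨j, hj, rfl⟩
      exact ⟨⟨j, by have := i.2; omega⟩, Fin.lt_def.2 (by simp only; omega), rfl⟩
    · rintro ⟨j, hj, rfl⟩
      exact ⟨j, by have := Fin.lt_def.1 hj; have := j.2; omega, rfl⟩
  have key2 : ∀ (i : Fin c), IsSMulRegular (A ⧸ Ideal.ofList ((List.ofFn f).take i) • (⊤ : Submodule A A))
      (f i) ↔ ∀ x, f i * x ∈ Ideal.span (f '' Set.Iio i) → x ∈ Ideal.span (f '' Set.Iio i) := by
    intro i
    rw [isSMulRegular_quotient_iff_mem_of_smul_mem, key i]
    simp only [smul_eq_mul]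
  constructor
  · intro h
    refine ⟨fun i hi => ?_⟩
    rw [List.length_ofFn] at hi
    rw [List.getElem_ofFn]
    exact (key2 ⟨i, hi⟩).mpr (h ⟨i, hi⟩)
  · intro h i
    have := h.regular_mod_prev i (by rw [List.length_ofFn]; exact i.2)
    rw [List.getElem_ofFn] at this
    exact (key2 i).mp this

theorem coeff_mem_iff_map_eq_zero {σ : Type*} (J : Ideal A) (P : MvPolynomial σ A) :
    (∀ d, P.coeff d ∈ J) ↔ MvPolynomial.map (Ideal.Quotient.mk J) P = 0 := by
  simp only [MvPolynomial.ext_iff, coeff_map, coeff_zero, Ideal.Quotient.eq_zero_iff_mem]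

theorem eq_C_of_isHomogeneous_zero {σ : Type*} {P : MvPolynomial σ A} (hP : P.IsHomogeneous 0) :
    P = C (P.coeff 0) := by
  rw [← homogeneousComponent_zero, homogeneousComponent_of_mem hP, if_pos rfl]

theorem exists_coeff_mem_eval {c : ℕ} (f : Fin c → A) (n : ℕ) {a : A}
    (ha : a ∈ Ideal.span (Set.range f) ^ (n + 1)) :
    ∃ P : MvPolynomial (Fin c) A, P.IsHomogeneous n ∧
      MvPolynomial.map (Ideal.Quotient.mk (Ideal.span (Set.range f))) P = 0 ∧ eval f P = a := by
  rw [pow_succ] at ha
  refine Submodule.mul_induction_on ha (fun p hp q hq => ?_) ?_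
  · obtain ⟨G, hG, rfl⟩ := exists_homogeneous_eval f n hp
    exact ⟨C q * G, hG.C_mul q, by
      rw [map_mul, map_C, Ideal.Quotient.eq_zero_iff_mem.mpr hq, map_zero, zero_mul],
      by rw [map_mul, eval_C, mul_comm]⟩
  · rintro p q ⟨G, hG, hG', rfl⟩ ⟨H, hH, hH', rfl⟩
    exact ⟨G + H, hG.add hH, by rw [map_add, hG', hH', add_zero], map_add _ _ _⟩

/-- To prove quasi-regularity it is enough to treat forms vanishing at the sequence. -/
theorem map_eq_zero_of_vanish {c : ℕ} (f : Fin c → A) {n : ℕ}
    (hZ : ∀ P : MvPolynomial (Fin c) A, P.IsHomogeneous n → eval f P = 0 →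
      MvPolynomial.map (Ideal.Quotient.mk (Ideal.span (Set.range f))) P = 0)
    {P : MvPolynomial (Fin c) A} (hP : P.IsHomogeneous n)
    (h : eval f P ∈ Ideal.span (Set.range f) ^ (n + 1)) :
    MvPolynomial.map (Ideal.Quotient.mk (Ideal.span (Set.range f))) P = 0 := by
  obtain ⟨P', hP', hmap, heval⟩ := exists_coeff_mem_eval f n h
  have := hZ (P - P') (hP.sub hP') (by rw [map_sub, heval, sub_self])
  rwa [map_sub, hmap, sub_zero] at this

theorem eval_mem_pow {σ : Type*} {f : σ → A} {n : ℕ} {P : MvPolynomial σ A} (hP : P.IsHomogeneous n) :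
    eval f P ∈ Ideal.span (Set.range f) ^ n := by
  classical
  rw [eval_eq]
  refine Ideal.sum_mem _ fun e he => Ideal.mul_mem_left _ _ ?_
  have h : ∀ i ∈ e.support, f i ^ e i ∈ Ideal.span (Set.range f) ^ e i := fun i _ =>
    Ideal.pow_mem_pow (Ideal.subset_span (Set.mem_range_self (i))) _
  have := Ideal.prod_mem_prod h
  rw [Finset.prod_pow_eq_pow_sum] at this
  rwa [hP.degree_eq_sum_deg_support he]

theorem smul_regular_mod_pow {c : ℕ} {g : Fin c → A} (hg : CAlgX.IsQuasiRegular g) {x : A}
    (hx : ∀ y, x * y ∈ Ideal.span (Set.range g) → y ∈ Ideal.span (Set.range g)) :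
    ∀ m y, x * y ∈ Ideal.span (Set.range g) ^ m → y ∈ Ideal.span (Set.range g) ^ m := by
  intro m
  induction m with
  | zero => simp
  | succ m ih =>
    intro y hy
    obtain ⟨Q, hQ, rfl⟩ := exists_homogeneous_eval g m (ih y (Ideal.pow_le_pow_right m.le_succ hy))
    have h := hg m (C x * Q) (hQ.C_mul x) (by rw [map_mul, eval_C]; exact hy)
    rw [pow_succ', eval_eq]
    refine Ideal.sum_mem _ fun e he => ?_
    have he' : Q.coeff e ∈ Ideal.span (Set.range g) := hx _ (by simpa using h e)
    refine Ideal.mul_mem_mul he' ?_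
    rw [hQ.degree_eq_sum_deg_support he, ← Finset.prod_pow_eq_pow_sum]
    exact Ideal.prod_mem_prod fun i _ => Ideal.pow_mem_pow (Ideal.subset_span (Set.mem_range_self (i))) _

theorem homogeneous_split {c : ℕ} {n : ℕ} {P : MvPolynomial (Fin (c + 1)) A}
    (hP : P.IsHomogeneous (n + 1)) :
    ∃ (G : MvPolynomial (Fin c) A) (H : MvPolynomial (Fin (c + 1)) A),
      G.IsHomogeneous (n + 1) ∧ H.IsHomogeneous n ∧
        P = rename Fin.castSucc G + X (Fin.last c) * H := by
  classical
  let v : Fin (c + 1) → MvPolynomial (Fin c) A := Fin.lastCases 0 X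
  have hv : ∀ i, (v i).IsHomogeneous 1 := fun i => by
    cases i using Fin.lastCases with
    | last => simpa [v] using isHomogeneous_zero _ _ _
    | cast i => simpa [v] using isHomogeneous_X A i
  have hG : (aeval v P).IsHomogeneous (n + 1) := by
    have := hP.aeval v hv
    rwa [one_mul] at this
  have hdvd : X (Fin.last c) ∣ P - rename Fin.castSucc (aeval v P) := by
    rw [← Ideal.mem_span_singleton, ← Ideal.Quotient.eq]
    let q := Ideal.Quotient.mkₐ A (Ideal.span {(X (Fin.last c) : MvPolynomial (Fin (c + 1)) A)})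
    have : q.comp ((rename Fin.castSucc).comp (aeval v)) = q := by
      refine algHom_ext fun i => ?_
      cases i using Fin.lastCases with
      | last =>
        simp only [AlgHom.comp_apply, aeval_X, v, Fin.lastCases_last, map_zero]
        exact (Ideal.Quotient.eq_zero_iff_mem.mpr (Ideal.mem_span_singleton_self _)).symm
      | cast i => simp [v, q]
    exact (DFunLike.congr_fun this P).symm
  obtain ⟨H, hH⟩ := hdvd
  refine ⟨aeval v P, homogeneousComponent n H, hG, homogeneousComponent_isHomogeneous n H, ?_⟩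
  have hX : (P - rename Fin.castSucc (aeval v P)).IsHomogeneous (n + 1) :=
    hP.sub hG.rename_isHomogeneous
  suffices h : X (Fin.last c) * homogeneousComponent n H = X (Fin.last c) * H by
    rw [h, ← hH]; abel
  have hd : homogeneousComponent (n + 1) (X (Fin.last c) * H) = X (Fin.last c) * H := by
    rw [← hH, homogeneousComponent_of_mem hX, if_pos rfl]
  conv_rhs => rw [← hd, ← sum_homogeneousComponent H, Finset.mul_sum, map_sum]
  rw [Finset.sum_eq_single n]
  · rw [homogeneousComponent_of_mem
      ((isHomogeneous_X A _).mul (homogeneousComponent_isHomogeneous n H)), if_pos (by omega)]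
  · intro j _ hj
    rw [homogeneousComponent_of_mem
      ((isHomogeneous_X A _).mul (homogeneousComponent_isHomogeneous j H)), if_neg (by omega)]
  · intro hn
    rw [homogeneousComponent_eq_zero n H (by simpa using hn), mul_zero, map_zero]

theorem vanish_of_wReg : ∀ (c : ℕ) (f : Fin c → A), WReg f → ∀ (n : ℕ) (P : MvPolynomial (Fin c) A),
    P.IsHomogeneous n → eval f P = 0 →
      MvPolynomial.map (Ideal.Quotient.mk (Ideal.span (Set.range f))) P = 0 := by
  intro c
  induction c with
  | zero =>
    intro f _ n P _ h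
    rw [eq_C_of_isEmpty P] at h ⊢
    rw [eval_C] at h
    rw [h, map_zero, map_zero]
  | succ c ihc =>
    intro f hf
    let g := f ∘ Fin.castSucc
    let x := f (Fin.last c)
    let J := Ideal.span (Set.range f)
    have hgJ : Ideal.span (Set.range g) ≤ J := Ideal.span_mono (Set.range_comp_subset_range _ _)
    have hgW : WReg g := by
      intro i y hy
      rw [Set.image_comp, Fin.image_castSucc_Iio] at hy ⊢
      exact hf i.castSucc y hy
    have hgQ : CAlgX.IsQuasiRegular g := fun m P hP h =>
      (coeff_mem_iff_map_eq_zero _ P).mpr (map_eq_zero_of_vanish g (ihc g hgW m) hP h)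
    have hx : ∀ y, x * y ∈ Ideal.span (Set.range g) → y ∈ Ideal.span (Set.range g) := by
      have e : f '' Set.Iio (Fin.last c) = Set.range g := by
        rw [Set.range_comp, Fin.range_castSucc]; congr 1
      rw [← e]
      exact hf (Fin.last c)
    intro n
    induction n with
    | zero =>
      intro P hP h
      rw [eq_C_of_isHomogeneous_zero hP] at h ⊢
      rw [eval_C] at h
      rw [h, map_zero, map_zero]
    | succ n ihn =>
      intro P hP h
      obtain ⟨G, H, hG, hH, rfl⟩ := homogeneous_split hP
      rw [map_add, map_mul, eval_rename, eval_X] at h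
      have hxH : x * eval f H ∈ Ideal.span (Set.range g) ^ (n + 1) := by
        rw [eq_neg_of_add_eq_zero_right h]
        exact neg_mem (eval_mem_pow hG)
      have hmem := smul_regular_mod_pow hgQ hx _ _ hxH
      have hmapH : MvPolynomial.map (Ideal.Quotient.mk J) H = 0 :=
        map_eq_zero_of_vanish f ihn hH (Ideal.pow_right_mono hgJ _ hmem)
      obtain ⟨K, hK, hKe⟩ := exists_homogeneous_eval g (n + 1) hmem
      have h0 := ihc g hgW (n + 1) (G + C x * K) (hG.add (hK.C_mul x))
        (by rw [map_add, map_mul, eval_C, hKe]; exact h)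
      have hmapG : MvPolynomial.map (Ideal.Quotient.mk J) G = 0 := by
        rw [← coeff_mem_iff_map_eq_zero] at h0 ⊢
        intro d
        have h1 : G.coeff d + x * K.coeff d ∈ J := by
          have := hgJ (h0 d)
          rwa [coeff_add, coeff_C_mul] at this
        exact (Ideal.add_mem_iff_left _
          (Ideal.mul_mem_right _ _ (Ideal.subset_span (Set.mem_range_self (Fin.last c))))).mp h1
      rw [map_add, map_mul, map_rename, hmapG, hmapH, map_zero, mul_zero, add_zero]

theorem isQuasiRegular_of_wReg {c : ℕ} {f : Fin c → A} (hf : WReg f) : CAlgX.IsQuasiRegular f :=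
  fun n P hP h =>
    (coeff_mem_iff_map_eq_zero _ P).mpr (map_eq_zero_of_vanish f (vanish_of_wReg c f hf n) hP h)

/-- Quasi-regularity does not depend on the system of generators of the same length. -/
theorem isQuasiRegular_of_span_eq {c : ℕ} (f f' : Fin c → A) (hf : CAlgX.IsQuasiRegular f)
    (h : Ideal.span (Set.range f') = Ideal.span (Set.range f)) : CAlgX.IsQuasiRegular f' := by
  classical
  have h1 : ∀ i, ∃ a : Fin c → A, ∑ j, a j * f j = f' i := fun i => by
    obtain ⟨a, ha⟩ := (Submodule.mem_span_range_iff_exists_fun A).mp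
      (h ▸ Ideal.subset_span (Set.mem_range_self (i)) : f' i ∈ Ideal.span (Set.range f))
    exact ⟨a, by simpa [smul_eq_mul] using ha⟩
  have h2 : ∀ i, ∃ a : Fin c → A, ∑ j, a j * f' j = f i := fun i => by
    obtain ⟨a, ha⟩ := (Submodule.mem_span_range_iff_exists_fun A).mp
      (h.symm ▸ Ideal.subset_span (Set.mem_range_self (i)) : f i ∈ Ideal.span (Set.range f'))
    exact ⟨a, by simpa [smul_eq_mul] using ha⟩
  choose M hM using h1
  choose N hN using h2
  set J := Ideal.span (Set.range f) with hJ
  have hNM : ((Matrix.of N * Matrix.of M).map (Ideal.Quotient.mk J)) = 1 := by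
    ext i k
    set P : MvPolynomial (Fin c) A :=
      ∑ l, C ((Matrix.of N * Matrix.of M) i l - (1 : Matrix (Fin c) (Fin c) A) i l) * X l with hPdef
    have hev : eval f P = 0 := by
      simp only [P, map_sum, map_mul, eval_C, eval_X, sub_mul, Finset.sum_sub_distrib,
        Matrix.mul_apply, Matrix.of_apply, Finset.sum_mul, Matrix.one_apply, ite_mul, one_mul,
        zero_mul, Finset.sum_ite_eq, Finset.mem_univ, if_true]
      rw [Finset.sum_comm]
      simp only [mul_assoc, ← Finset.mul_sum, hM, hN, sub_self]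
    have hP : P.IsHomogeneous 1 := IsHomogeneous.sum _ _ _ fun l _ => (isHomogeneous_X A l).C_mul _
    have := hf 1 P hP (by rw [hev]; exact zero_mem _) (Finsupp.single k 1)
    rw [hPdef, coeff_sum, Finset.sum_eq_single k (fun l _ hl => by
      rw [coeff_C_mul, coeff_X', if_neg (fun he => hl (Finsupp.single_left_injective one_ne_zero he)),
        mul_zero]) (by simp), coeff_C_mul, coeff_X, if_pos rfl, mul_one] at this
    rw [Matrix.map_apply, Ideal.Quotient.eq.mpr this]
    simp [Matrix.one_apply, apply_ite (Ideal.Quotient.mk J)]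
  have hMN : (Matrix.of M).map (Ideal.Quotient.mk J) * (Matrix.of N).map (Ideal.Quotient.mk J) = 1 := by
    rw [Matrix.map_mul] at hNM
    exact mul_eq_one_comm.mp hNM
  intro n P hP hev
  rw [h] at hev ⊢
  let v : Fin c → MvPolynomial (Fin c) A := fun i => ∑ j, C (M i j) * X j
  have hv : ∀ i, (v i).IsHomogeneous 1 := fun i =>
    IsHomogeneous.sum _ _ _ fun l _ => (isHomogeneous_X A l).C_mul _
  have hQ : (aeval v P).IsHomogeneous n := by
    have := hP.aeval v hv
    rwa [one_mul] at this
  have hevQ : eval f (aeval v P) = eval f' P := by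
    have : ((eval f).comp (aeval v).toRingHom) = eval f' := by
      refine ringHom_ext (fun a => by simp) fun i => ?_
      simp [v, hM]
    exact RingHom.congr_fun this P
  have h0 := (coeff_mem_iff_map_eq_zero J _).mp (hf n _ hQ (hevQ ▸ hev))
  let v' : Fin c → MvPolynomial (Fin c) (A ⧸ J) := fun i => ∑ j, C (Ideal.Quotient.mk J (M i j)) * X j
  let w' : Fin c → MvPolynomial (Fin c) (A ⧸ J) := fun i => ∑ j, C (Ideal.Quotient.mk J (N i j)) * X j
  have hcomm : MvPolynomial.map (Ideal.Quotient.mk J) (aeval v P) =
      aeval v' (MvPolynomial.map (Ideal.Quotient.mk J) P) := by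
    have : (MvPolynomial.map (Ideal.Quotient.mk J)).comp (aeval v).toRingHom =
        (aeval v').toRingHom.comp (MvPolynomial.map (Ideal.Quotient.mk J)) := by
      refine ringHom_ext (fun a => by simp) fun i => ?_
      simp [v, v']
    exact RingHom.congr_fun this P
  have hid : (aeval w').comp (aeval v') = AlgHom.id (A ⧸ J) _ := by
    refine algHom_ext fun i => ?_
    simp only [AlgHom.comp_apply, aeval_X, v', w', map_sum, map_mul, aeval_C, algebraMap_eq,
      AlgHom.id_apply, Finset.mul_sum]
    rw [Finset.sum_comm]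
    have := fun k => congrFun (congrFun hMN i) k
    simp only [Matrix.mul_apply, Matrix.map_apply, Matrix.of_apply] at this
    simp only [← mul_assoc, ← map_mul, ← Finset.sum_mul, ← map_sum]
    simp only [map_sum, map_mul, this, Matrix.one_apply, apply_ite C, map_one, map_zero, ite_mul,
      one_mul, zero_mul, Finset.sum_ite_eq, Finset.mem_univ, if_true]
  rw [coeff_mem_iff_map_eq_zero]
  have := congrArg (aeval w') (hcomm.symm.trans h0)
  rwa [← AlgHom.comp_apply, hid, map_zero] at this

theorem smul_regular_of_isQuasiRegular [IsNoetherianRing A] {c : ℕ} (f : Fin c → A)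
    (hJ : Ideal.span (Set.range f) ≤ Ring.jacobson A) (hq : CAlgX.IsQuasiRegular f) (i : Fin c)
    {a : A} (ha : f i * a = 0) : a = 0 := by
  have key : ∀ n, a ∈ Ideal.span (Set.range f) ^ n := by
    intro n
    induction n with
    | zero => simp
    | succ n ih =>
      obtain ⟨Q, hQ, rfl⟩ := exists_homogeneous_eval f n ih
      have h := hq (n + 1) (X i * Q) (by
        have := (isHomogeneous_X A i).mul hQ
        rwa [Nat.add_comm] at this) (by rw [map_mul, eval_X, ha]; exact zero_mem _)
      rw [pow_succ', eval_eq]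
      refine Ideal.sum_mem _ fun e he => ?_
      have he' : Q.coeff e ∈ Ideal.span (Set.range f) := by
        have := h (Finsupp.single i 1 + e)
        rwa [coeff_X_mul] at this
      refine Ideal.mul_mem_mul he' ?_
      rw [hQ.degree_eq_sum_deg_support he, ← Finset.prod_pow_eq_pow_sum]
      exact Ideal.prod_mem_prod fun j _ => Ideal.pow_mem_pow (Ideal.subset_span (Set.mem_range_self (j))) _
  have hmem : a ∈ (⨅ n : ℕ, Ideal.span (Set.range f) ^ n • ⊤ : Submodule A A) := by
    rw [Submodule.mem_iInf]
    intro n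
    simpa using key n
  rwa [Ideal.iInf_pow_smul_eq_bot_of_le_jacobson _ (hJ.trans Ideal.jacobson_bot.ge), Submodule.mem_bot] at hmem

theorem isQuasiRegular_mod_head [IsNoetherianRing A] {c : ℕ} (f : Fin (c + 1) → A)
    (hq : CAlgX.IsQuasiRegular f) :
    CAlgX.IsQuasiRegular (fun i : Fin c => Ideal.Quotient.mk (Ideal.span {f 0}) (f i.succ)) := by
  classical
  set J := Ideal.span (Set.range f)
  set π := Ideal.Quotient.mk (Ideal.span {f 0})
  set f' : Fin c → A := f ∘ Fin.succ
  have hJJ : (Ideal.span (Set.range f')).map π = Ideal.span (Set.range fun i : Fin c => π (f i.succ)) := by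
    rw [Ideal.map_span, ← Set.range_comp]; rfl
  have hle : Ideal.span (Set.range f') ≤ J := Ideal.span_mono (Set.range_comp_subset_range _ _)
  intro n P hP hev d
  obtain ⟨P₀, hP₀, rfl⟩ : ∃ P₀ : MvPolynomial (Fin c) A, P₀.IsHomogeneous n ∧
      MvPolynomial.map π P₀ = P := by
    obtain ⟨R₀, rfl⟩ := map_surjective π Ideal.Quotient.mk_surjective P
    refine ⟨homogeneousComponent n R₀, homogeneousComponent_isHomogeneous n R₀, ?_⟩
    rw [MvPolynomial.ext_iff]
    intro e
    rw [coeff_map, coeff_homogeneousComponent, coeff_map]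
    split_ifs with he
    · rfl
    · rw [map_zero, ← coeff_map]
      exact (hP.coeff_eq_zero he).symm
  rw [← hJJ, ← Ideal.map_pow, eval_map, show (fun i => π (f i.succ)) = π ∘ f' from rfl,
    ← eval₂_comp, Ideal.mem_map_iff_of_surjective _ Ideal.Quotient.mk_surjective] at hev
  obtain ⟨r, hr, hre⟩ := hev
  obtain ⟨a, ha⟩ := Ideal.mem_span_singleton.mp (Ideal.Quotient.eq.mp hre.symm)
  have hsum : eval f' P₀ = r + f 0 * a := by linear_combination ha
  have hmap : MvPolynomial.map (Ideal.Quotient.mk J) P₀ = 0 := by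
    have hev' : eval f (rename Fin.succ P₀) = eval f' P₀ := by rw [eval_rename]
    have hfa : f 0 * a ∈ J ^ n := by
      rw [show f 0 * a = eval f' P₀ - r by linear_combination -hsum]
      exact sub_mem (Ideal.pow_right_mono hle _ (eval_mem_pow hP₀))
        (Ideal.pow_le_pow_right n.le_succ (Ideal.pow_right_mono hle _ hr))
    cases n with
    | zero =>
      rw [eq_C_of_isHomogeneous_zero hP₀] at hsum ⊢
      rw [eval_C] at hsum
      rw [map_C, hsum, Ideal.Quotient.eq_zero_iff_mem.mpr (add_mem (by simpa using Ideal.pow_right_mono hle _ hr)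
        (Ideal.mul_mem_right _ _ (Ideal.subset_span (Set.mem_range_self (0))))), map_zero]
    | succ n =>
      have haJ : ∀ k ≤ n, a ∈ J ^ k := by
        intro k
        induction k with
        | zero => simp
        | succ k ih =>
          intro hk
          obtain ⟨Q, hQ, hQa⟩ := exists_homogeneous_eval f k (ih (by omega))
          have h := hq (k + 1) (X 0 * Q) (by
            have := (isHomogeneous_X A (0 : Fin (c + 1))).mul hQ
            exact Nat.add_comm 1 k ▸ this)
            (by rw [map_mul, eval_X, hQa]; exact Ideal.pow_le_pow_right (by omega) hfa)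
          rw [← hQa, pow_succ', eval_eq]
          refine Ideal.sum_mem _ fun e he => ?_
          have he' : Q.coeff e ∈ J := by
            have := h (Finsupp.single 0 1 + e)
            rwa [coeff_X_mul] at this
          refine Ideal.mul_mem_mul he' ?_
          rw [hQ.degree_eq_sum_deg_support he, ← Finset.prod_pow_eq_pow_sum]
          exact Ideal.prod_mem_prod fun j _ => Ideal.pow_mem_pow (Ideal.subset_span (Set.mem_range_self (j))) _
      obtain ⟨K, hK, hKa⟩ := exists_homogeneous_eval f n (haJ n le_rfl)
      have hXK : (X 0 * K).IsHomogeneous (n + 1) := by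
        have := (isHomogeneous_X A (0 : Fin (c + 1))).mul hK
        exact Nat.add_comm 1 n ▸ this
      have h := (coeff_mem_iff_map_eq_zero _ _).mp (hq (n + 1) (rename Fin.succ P₀ - X 0 * K)
        (hP₀.rename_isHomogeneous.sub hXK)
        (by rw [map_sub, map_mul, eval_X, hev', hKa, hsum, add_sub_cancel_right]
            exact Ideal.pow_right_mono hle _ hr))
      have h2 := congrArg (aeval (Fin.cases (0 : MvPolynomial (Fin c) (A ⧸ J)) X)) h
      have hcomp : ((fun x => Fin.cases (0 : MvPolynomial (Fin c) (A ⧸ J)) X x) ∘ Fin.succ) = X := by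
        ext1 i; simp
      rw [map_sub, map_sub, map_mul, map_mul, map_X, aeval_X, map_rename, aeval_rename, map_zero,
        hcomp, aeval_X_left_apply, Fin.cases_zero, zero_mul, sub_zero] at h2
      exact h2
  rw [coeff_map]
  have hd := (coeff_mem_iff_map_eq_zero J P₀).mpr hmap d
  rw [← hJJ]
  have hJ' : J ≤ Ideal.span (Set.range f') ⊔ Ideal.span {f 0} := by
    refine Ideal.span_le.mpr ?_
    rintro _ ⟨i, rfl⟩
    cases i using Fin.cases with
    | zero => exact Ideal.mem_sup_right (Ideal.mem_span_singleton_self _)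
    | succ i => exact Ideal.mem_sup_left (Ideal.subset_span (Set.mem_range_self (i)))
  have := Ideal.mem_map_of_mem π (hJ' hd)
  rwa [Ideal.map_sup, Ideal.map_quotient_self, sup_bot_eq] at this

end Groth.Agent.RegIdeal
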