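import Groth.Agent.RegIdeal.Vasconcelos

/-!
A free rank one direct summand of the conormal module of an ideal of finite projective dimension
is generated by the class of a nonzerodivisor.
-/

set_option autoImplicit false
universe u

namespace Groth.Agent.RegIdeal

open IsLocalRing
open Groth.Agent.SerreReg (PdLE)
open CategoryTheory

/-- Adjust an element in its coset to avoid finitely many primes. -/
theorem coset_avoid {R : Type u} [CommRing R] (I : Ideal R) (u₀ : R) (s : Finset (PrimeSpectrum R))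
    (hs : ∀ p ∈ s, u₀ ∈ p.asIdeal → ∃ k ∈ I, k ∉ p.asIdeal) :
    ∃ k ∈ I, ∀ p ∈ s, u₀ + k ∉ p.asIdeal := by
  classical
  induction s using Finset.strongInduction with
  | _ s ih => ?_
  rcases s.eq_empty_or_nonempty with rfl | hne
  · exact ⟨0, zero_mem _, by simp⟩
  obtain ⟨p, hp⟩ := s.exists_minimal hne
  obtain ⟨k, hk, hks⟩ := ih (s.erase p) (Finset.erase_ssubset hp.prop)
    fun q hq => hs q (Finset.mem_of_mem_erase hq)
  by_cases h : u₀ + k ∈ p.asIdeal
  · obtain ⟨k₀, hk₀, hk₀p⟩ : ∃ k₀ ∈ I, k₀ ∉ p.asIdeal := by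
      by_cases hkp : k ∈ p.asIdeal
      · exact hs p hp.prop ((Ideal.add_mem_iff_left _ hkp).1 h)
      · exact ⟨k, hk, hkp⟩
    have hq : ∀ q : {q // q ∈ s.erase p}, ∃ t ∈ q.1.asIdeal, t ∉ p.asIdeal := fun q => by
      by_contra hne'
      push Not at hne'
      have hle : q.1 ≤ p := hne'
      exact (Finset.ne_of_mem_erase q.2)
        (le_antisymm hle (hp.le_of_le (Finset.mem_of_mem_erase q.2) hle))
    choose t ht htp using hq
    refine ⟨k + k₀ * ∏ q, t q, add_mem hk (I.mul_mem_right _ hk₀), fun q hq => ?_⟩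
    by_cases hqp : q = p
    · subst hqp
      rw [← add_assoc]
      intro hmem
      have hprod : k₀ * ∏ r, t r ∈ q.asIdeal := (Ideal.add_mem_iff_right _ h).1 hmem
      rcases q.isPrime.mem_or_mem hprod with h' | h'
      · exact hk₀p h'
      · obtain ⟨r, -, hr⟩ := Ideal.IsPrime.prod_mem_iff.1 h'
        exact htp r hr
    · rw [← add_assoc]
      intro hmem
      have hq' : q ∈ s.erase p := Finset.mem_erase.2 ⟨hqp, hq⟩
      refine hks q hq' ((Ideal.add_mem_iff_left _ ?_).1 hmem)
      exact Ideal.mul_mem_left _ _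
        (Ideal.mem_of_dvd _ (Finset.dvd_prod_of_mem t (Finset.mem_univ ⟨q, hq'⟩)) (ht ⟨q, hq'⟩))
  · refine ⟨k, hk, fun q hq => ?_⟩
    by_cases hqp : q = p
    · exact hqp ▸ h
    · exact hks q (Finset.mem_erase.2 ⟨hqp, hq⟩)

/-- An ideal of finite projective dimension with an element killed by nothing outside it is
contained in no associated prime. -/
theorem not_le_associatedPrime {R : Type u} [CommRing R] [IsNoetherianRing R] {I : Ideal R} {n : ℕ}
    (hpd : PdLE R I n) {x₀ : R} (hx₀ : x₀ ∈ I) (hx : ∀ t, t * x₀ = 0 → t ∈ I)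
    {P : Ideal R} (hP : P ∈ associatedPrimes R R) : ¬ I ≤ P := by
  intro hle
  rw [AssociatedPrimes.mem_iff, isAssociatedPrime_iff] at hP
  obtain ⟨hprime, a, ha⟩ := hP
  haveI := hprime
  let L := Localization.AtPrime P
  let J := I.map (algebraMap R L)
  have haP : ∀ t, t ∈ P ↔ t * a = 0 := fun t => by
    rw [ha, Submodule.mem_colon_singleton, Submodule.mem_bot, smul_eq_mul]
  have ha0 : algebraMap R L a ≠ 0 := by
    rw [Ne, IsLocalization.map_eq_zero_iff P.primeCompl]
    rintro ⟨t, ht⟩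
    exact t.2 ((haP t).mpr ht)
  have hkill : ∀ v ∈ maximalIdeal L, v * algebraMap R L a = 0 := by
    intro v hv
    obtain ⟨b, s, rfl⟩ := IsLocalization.exists_mk'_eq P.primeCompl v
    have hb : b ∈ P := (IsLocalization.AtPrime.mk'_mem_maximal_iff L P b s).mp hv
    rw [IsLocalization.mk'_eq_mul_mk'_one, mul_right_comm, ← map_mul, (haP b).mp hb, map_zero,
      zero_mul]
  haveI : Module.Finite L J := Module.Finite.iff_fg.mpr (IsNoetherian.noetherian _)
  haveI : Module.Free L J := Groth.Agent.SerreReg.free_of_pdLE_of_socle ha0 hkill n J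
    (pdLE_map_localization P.primeCompl I n hpd)
  haveI hJ0 : Nontrivial J := by
    rw [Submodule.nontrivial_iff_ne_bot]
    intro h0
    have hmem : algebraMap R L x₀ ∈ J := Ideal.mem_map_of_mem _ hx₀
    rw [h0, Submodule.mem_bot, IsLocalization.map_eq_zero_iff P.primeCompl] at hmem
    obtain ⟨t, ht⟩ := hmem
    exact t.2 (hle (hx _ ht))
  let b := Module.Free.chooseBasis L J
  obtain ⟨i⟩ := b.index_nonempty
  have hJm : J ≤ maximalIdeal L := (Ideal.map_mono hle).trans
    (le_of_eq (IsLocalization.AtPrime.map_eq_maximalIdeal P L))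
  have h0 : algebraMap R L a • b i = 0 := Subtype.ext (by
    change algebraMap R L a * (b i : L) = 0
    rw [mul_comm]
    exact hkill _ (hJm (b i).2))
  have h1 := congrArg (fun v => b.repr v i) h0
  simp only [map_smul, Finsupp.smul_apply, Module.Basis.repr_self, Finsupp.single_eq_same,
    smul_eq_mul, mul_one, map_zero, Finsupp.zero_apply] at h1
  exact ha0 h1

theorem exists_nonZeroDivisor_of_summand {R : Type u} [CommRing R] [IsNoetherianRing R] (I : Ideal R)
    {n : ℕ} (hpd : PdLE R I n) (F : Submodule (R ⧸ I) I.Cotangent)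
    (e : F ≃ₗ[R ⧸ I] (R ⧸ I)) :
    ∃ (x : R) (hx : x ∈ I), x ∈ nonZeroDivisors R ∧
      Submodule.span (R ⧸ I) {I.toCotangent ⟨x, hx⟩} = F := by
  classical
  set c : F := e.symm 1 with hc
  obtain ⟨⟨x₀, hx₀⟩, hcx⟩ := I.toCotangent_surjective (c : I.Cotangent)
  have hspan : Submodule.span (R ⧸ I) {(c : I.Cotangent)} = F := by
    refine le_antisymm ((Submodule.span_singleton_le_iff_mem _ _).2 c.2) fun v hv => ?_
    rw [Submodule.mem_span_singleton]
    refine ⟨e ⟨v, hv⟩, ?_⟩
    rw [← Submodule.coe_smul, hc, ← map_smul, smul_eq_mul, mul_one, LinearEquiv.symm_apply_apply]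
  have hann : ∀ t, t * x₀ = 0 → t ∈ I := by
    intro t ht
    have h0 : (Ideal.Quotient.mk I t) • c = 0 := by
      refine Subtype.ext ?_
      rw [Submodule.coe_smul, ← hcx, ← Ideal.Quotient.algebraMap_eq, algebraMap_smul, ← map_smul,
        show t • (⟨x₀, hx₀⟩ : I) = 0 from Subtype.ext ht, map_zero]
      rfl
    have := congrArg e h0
    rw [map_smul, hc, LinearEquiv.apply_symm_apply, smul_eq_mul, mul_one, map_zero] at this
    exact Ideal.Quotient.eq_zero_iff_mem.1 this
  let s : Finset (PrimeSpectrum R) :=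
    (associatedPrimes.finite R R).toFinset.attach.image
      fun P => ⟨P.1, ((associatedPrimes.finite R R).mem_toFinset.1 P.2).isPrime⟩
  obtain ⟨k, hk, hks⟩ := coset_avoid (I ^ 2) x₀ s fun p hp _ => by
    obtain ⟨P, -, rfl⟩ := Finset.mem_image.1 hp
    by_contra hne
    push Not at hne
    have hprime : (P.1).IsPrime := ((associatedPrimes.finite R R).mem_toFinset.1 P.2).isPrime
    exact not_le_associatedPrime hpd hx₀ hann ((associatedPrimes.finite R R).mem_toFinset.1 P.2)
      (hprime.le_of_pow_le hne)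
  refine ⟨x₀ + k, add_mem hx₀ (Ideal.pow_le_self two_ne_zero hk), ?_, ?_⟩
  · by_contra hnz
    have hmem : x₀ + k ∈ ⋃ P ∈ associatedPrimes R R, (P : Set R) := by
      rw [biUnion_associatedPrimes_eq_compl_nonZeroDivisors]
      exact hnz
    obtain ⟨P, hP, hxP⟩ := Set.mem_iUnion₂.mp hmem
    exact hks ⟨P, hP.isPrime⟩ (Finset.mem_image.2
      ⟨⟨P, (associatedPrimes.finite R R).mem_toFinset.2 hP⟩, Finset.mem_attach _ _, rfl⟩) hxP
  · rw [show I.toCotangent ⟨x₀ + k, add_mem hx₀ (Ideal.pow_le_self two_ne_zero hk)⟩ =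
        I.toCotangent ⟨x₀, hx₀⟩ from (Ideal.toCotangent_eq I).2 (by simpa using hk), hcx, hspan]

end Groth.Agent.RegIdeal
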