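import Groth.Agent.RegIdeal.Vasconcelos
import Mathlib.RingTheory.Localization.Away.Basic

/-!
Globalisation of the criterion for regular ideals.
-/

set_option autoImplicit false
universe u

namespace Groth.Agent.RegIdeal

open IsLocalRing CategoryTheory RingTheory.Sequence
open Groth.Agent.SerreReg (PdLE)

variable {R : Type u} [CommRing R] [IsNoetherianRing R]

theorem exists_common_multiplier (p : Ideal R) [p.IsPrime] (N M : Ideal R)
    (h : ∀ z ∈ N, ∃ t ∉ p, t * z ∈ M) : ∃ t ∉ p, ∀ z ∈ N, t * z ∈ M := by
  classical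
  obtain ⟨s, hs⟩ := IsNoetherian.noetherian N
  choose! t ht htM using h
  have hsN : ∀ z ∈ s, z ∈ N := fun z hz => hs ▸ Submodule.subset_span hz
  refine ⟨∏ z ∈ s, t z, fun hp => ?_, fun z hz => ?_⟩
  · obtain ⟨z, hzs, hz⟩ := (Ideal.IsPrime.prod_mem_iff (p := p)).mp hp
    exact ht z (hsN z hzs) hz
  · rw [← hs] at hz
    induction hz using Submodule.span_induction with
    | mem z hz =>
      rw [← Finset.prod_erase_mul _ _ hz, mul_assoc]
      exact Ideal.mul_mem_left _ _ (htM z (hsN z hz))
    | zero => simp
    | add a b _ _ ha hb => rw [mul_add]; exact add_mem ha hb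
    | smul c a _ ha => rw [smul_eq_mul, mul_left_comm]; exact Ideal.mul_mem_left _ _ ha

theorem exists_of_mem_map (p : Ideal R) [p.IsPrime] (M : Ideal R) {z : R}
    (h : algebraMap R (Localization.AtPrime p) z ∈ M.map (algebraMap R (Localization.AtPrime p))) :
    ∃ t ∉ p, t * z ∈ M := by
  obtain ⟨⟨⟨w, hw⟩, s⟩, hws⟩ :=
    (IsLocalization.mem_map_algebraMap_iff p.primeCompl (Localization.AtPrime p)).mp h
  rw [← map_mul, IsLocalization.eq_iff_exists p.primeCompl] at hws
  obtain ⟨c, hc⟩ := hws
  refine ⟨(c : R) * s, p.primeCompl.mul_mem c.2 s.2, ?_⟩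
  rw [mul_assoc, mul_comm (s : R) z, hc]
  exact Ideal.mul_mem_left _ _ hw

omit [IsNoetherianRing R] in
theorem span_image_Iio_map {S : Type u} [CommRing S] (φ : R →+* S) {r : ℕ} (x : Fin r → R) (i : Fin r) :
    Ideal.span ((φ ∘ x) '' Set.Iio i) = (Ideal.span (x '' Set.Iio i)).map φ := by
  rw [Ideal.map_span, Set.image_comp]

theorem exists_regular_nhd (I : Ideal R) (n : ℕ) (hpd : PdLE R I n)
    [Module.Projective (R ⧸ I) I.Cotangent] (p : Ideal R) [p.IsPrime] (hIp : I ≤ p) :
    ∃ g : R, g ∉ p ∧ ∃ rs : List (Localization.Away g),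
      IsRegular (Localization.Away g) rs ∧
        Ideal.ofList rs = I.map (algebraMap R (Localization.Away g)) := by
  classical
  set L := Localization.AtPrime p with hL
  set al := algebraMap R L with hal
  set J := I.map al with hJ
  have hJm : J ≤ maximalIdeal L := (Ideal.map_mono hIp).trans
    (IsLocalization.AtPrime.map_eq_maximalIdeal p L).le
  obtain ⟨s, hs⟩ := IsNoetherian.noetherian I
  -- a minimal set of generators of the localised ideal
  let T : Finset (Finset R) := s.powerset.filter fun t : Finset R => Ideal.span ((fun z => al z) '' (t : Set R)) = J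
  have hT : T.Nonempty := ⟨s, Finset.mem_filter.mpr ⟨Finset.mem_powerset_self s, by
    rw [hJ, ← hs]; exact (Ideal.map_span al _).symm⟩⟩
  obtain ⟨t, ht, htmin⟩ := Finset.exists_min_image T Finset.card hT
  obtain ⟨hts, htJ⟩ := Finset.mem_filter.mp ht
  rw [Finset.mem_powerset] at hts
  let x : Fin t.card → R := fun i => (t.equivFin.symm i : R)
  have hxI : ∀ i, x i ∈ I := fun i => hs ▸ Submodule.subset_span (hts (t.equivFin.symm i).2)
  have hspanx : Ideal.span (Set.range (al ∘ x)) = J := by
    rw [← htJ]
    congr 1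
    ext w
    constructor
    · rintro ⟨i, rfl⟩
      exact ⟨x i, (t.equivFin.symm i).2, rfl⟩
    · rintro ⟨z, hz, rfl⟩
      exact ⟨t.equivFin ⟨z, hz⟩, by simp [x]⟩
  have hmin : ∀ (c : Fin t.card → L) (i : Fin t.card), ∑ j, c j * al (x j) ∈ maximalIdeal L * J →
      c i ∈ maximalIdeal L := by
    intro c i hc
    rw [IsLocalRing.mem_maximalIdeal]
    intro hu
    have hmem : al (x i) ∈ Ideal.span ((fun z => al z) '' ((t.erase (x i) : Finset R) : Set R)) ⊔
        maximalIdeal L * J := by
      have h1 : al (x i) = (↑hu.unit⁻¹ : L) * (∑ j, c j * al (x j)) -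
          (↑hu.unit⁻¹ : L) * ∑ j ∈ Finset.univ.erase i, c j * al (x j) := by
        rw [← Finset.add_sum_erase _ _ (Finset.mem_univ i), mul_add, add_sub_cancel_right,
          ← mul_assoc, hu.val_inv_mul, one_mul]
      rw [h1]
      refine sub_mem (Ideal.mem_sup_right (Ideal.mul_mem_left _ _ hc))
        (Ideal.mem_sup_left (Ideal.mul_mem_left _ _ (Ideal.sum_mem _ fun j hj =>
          Ideal.mul_mem_left _ _ (Ideal.subset_span ⟨x j, ?_, rfl⟩))))
      refine Finset.mem_coe.mpr (Finset.mem_erase.mpr ⟨fun h => (Finset.mem_erase.mp hj).1 ?_,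
        (t.equivFin.symm j).2⟩)
      exact t.equivFin.symm.injective (Subtype.ext h)
    have hle : J = Ideal.span ((fun z => al z) '' ((t.erase (x i) : Finset R) : Set R)) := by
      refine eq_of_le_sup_mul (htJ ▸ Ideal.span_mono (Set.image_mono
        (Finset.coe_subset.mpr (Finset.erase_subset _ _)))) (le_refl (maximalIdeal L)) ?_
      refine htJ.symm.le.trans (Ideal.span_le.mpr ?_)
      rintro _ ⟨z, hz, rfl⟩
      by_cases hzi : z = x i
      · exact hzi ▸ hmem
      · exact Ideal.mem_sup_left (Ideal.subset_span ⟨z, Finset.mem_erase.mpr ⟨hzi, hz⟩, rfl⟩)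
    have hlt := htmin (t.erase (x i)) (Finset.mem_filter.mpr
      ⟨Finset.mem_powerset.mpr ((Finset.erase_subset _ _).trans hts), hle.symm⟩)
    exact absurd hlt (not_le.mpr (Finset.card_erase_lt_of_mem (t.equivFin.symm i).2))
  -- independence
  have hind : Indep (al ∘ x) := by
    intro a ha
    rw [hspanx] at ha ⊢
    let gs : s → I.Cotangent := fun k => I.toCotangent ⟨k, hs ▸ Submodule.subset_span k.2⟩
    have hgs : Function.Surjective (Fintype.linearCombination (R ⧸ I) gs) := by
      intro v
      obtain ⟨⟨w, hw⟩, rfl⟩ := I.toCotangent_surjective v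
      let sf : Fin s.card → I := fun i =>
        ⟨(s.equivFin.symm i : R), hs ▸ Submodule.subset_span (s.equivFin.symm i).2⟩
      have hsf : Ideal.span (Set.range fun i => (sf i : R)) = I := by
        refine Eq.trans ?_ hs
        refine congrArg (Submodule.span R) ?_
        ext z
        exact ⟨fun ⟨i, hi⟩ => hi ▸ (s.equivFin.symm i).2,
          fun hz => ⟨s.equivFin ⟨z, hz⟩, by simp [sf]⟩⟩
      have h := span_toCotangent_eq_top I sf hsf
      have hrange : (Set.range fun i => I.toCotangent (sf i)) = Set.range gs :=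
        s.equivFin.symm.surjective.range_comp gs
      rw [hrange, ← Fintype.range_linearCombination, LinearMap.range_eq_top] at h
      exact h _
    obtain ⟨σ, hσ⟩ := Module.projective_lifting_property (Fintype.linearCombination (R ⧸ I) gs)
      LinearMap.id hgs
    choose d hd using fun (i : Fin t.card) (k : s) =>
      Ideal.Quotient.mk_surjective (σ (I.toCotangent ⟨x i, hxI i⟩) k)
    have hgen : ∀ k : s, ∃ c : Fin t.card → L, ∑ j, c j • al (x j) = al (k : R) := fun k =>
      (Submodule.mem_span_range_iff_exists_fun L).mp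
        (show al (k : R) ∈ Ideal.span (Set.range (al ∘ x)) by
          rw [hspanx, hJ]; exact Ideal.mem_map_of_mem _ (hs ▸ Submodule.subset_span k.2))
    choose c hc using hgen
    simp only [smul_eq_mul] at hc
    let E : Matrix (Fin t.card) (Fin t.card) L := Matrix.of fun i j => ∑ k, al (d i k) * c k j
    have hE : ∀ i, al (x i) - ∑ j, E i j * al (x j) ∈ maximalIdeal L * J := by
      intro i
      have h1 := LinearMap.congr_fun hσ (I.toCotangent ⟨x i, hxI i⟩)
      simp only [LinearMap.comp_apply, LinearMap.id_apply, Fintype.linearCombination_apply, ← hd,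
        gs] at h1
      have h2 : ∑ k : s, Ideal.Quotient.mk I (d i k) •
          I.toCotangent ⟨k, hs ▸ Submodule.subset_span k.2⟩ =
          I.toCotangent (∑ k : s, d i k • (⟨k, hs ▸ Submodule.subset_span k.2⟩ : I)) := by
        simp only [map_sum, map_smul]
        exact Finset.sum_congr rfl fun k _ => algebraMap_smul (R ⧸ I) (d i k) _
      rw [h2, Ideal.toCotangent_eq, ← neg_mem_iff] at h1
      have h3 := Ideal.mem_map_of_mem al h1
      rw [Ideal.map_pow, pow_two] at h3
      have h4 := (Ideal.mul_mono_left hJm : J * J ≤ _) h3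
      have h5 : ∑ j, E i j * al (x j) = ∑ k, al (d i k) * al (k : R) := by
        refine (Finset.sum_congr rfl fun j _ =>
          Finset.sum_mul Finset.univ (fun k => al (d i k) * c k j) (al (x j))).trans ?_
        rw [Finset.sum_comm]
        refine Finset.sum_congr rfl fun k _ => ?_
        rw [← hc k, Finset.mul_sum]
        exact Finset.sum_congr rfl fun j _ => mul_assoc _ _ _
      rw [h5]
      convert h4 using 1
      simp only [map_neg, map_sub, Submodule.coe_sum,
        SetLike.val_smul, smul_eq_mul, map_sum, map_mul, neg_sub]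
    have hres : E.map (residue L) = 1 := by
      ext i j
      have := hmin (fun l => (1 : Matrix (Fin t.card) (Fin t.card) L) i l - E i l) j (by
        simpa [sub_mul, Finset.sum_sub_distrib, Matrix.one_apply, ite_mul] using hE i)
      rw [← residue_eq_zero_iff, map_sub, sub_eq_zero] at this
      rw [Matrix.map_apply, ← this]
      by_cases hij : i = j <;> simp [Matrix.one_apply, hij]
    have hdet : IsUnit E.det := by
      rw [← residue_ne_zero_iff_isUnit, RingHom.map_det, RingHom.mapMatrix_apply, hres, Matrix.det_one]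
      exact one_ne_zero
    have haE : ∀ j, Matrix.vecMul a E j ∈ J := by
      obtain ⟨⟨q, hq⟩, hqa⟩ := IsLocalization.exist_integer_multiples_of_finite p.primeCompl a
      choose α hα using hqa
      have hmem : al (∑ i, α i * x i) ∈ (I ^ 2).map al := by
        rw [Ideal.map_pow, map_sum]
        have : ∑ i, al (α i * x i) = al q * ∑ i, a i * (al ∘ x) i := by
          rw [Finset.mul_sum]
          refine Finset.sum_congr rfl fun i _ => ?_
          rw [map_mul, hα i, Algebra.smul_def]
          simp [hal, mul_assoc]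
        rw [this]
        exact Ideal.mul_mem_left _ _ ha
      obtain ⟨t', ht', hmem'⟩ := exists_of_mem_map p (I ^ 2) hmem
      have h0 : ∑ i, Ideal.Quotient.mk I (t' * α i) • I.toCotangent ⟨x i, hxI i⟩ = 0 := by
        rw [cotangent_sum I (fun i => ⟨x i, hxI i⟩) fun i => t' * α i, Ideal.toCotangent_eq_zero]
        rw [Submodule.coe_sum]
        simpa [Finset.mul_sum, mul_assoc] using hmem'
      have hk : ∀ k, al (∑ i, t' * α i * d i k) ∈ J := by
        intro k
        refine Ideal.mem_map_of_mem _ (Ideal.Quotient.eq_zero_iff_mem.mp ?_)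
        have h1 := congrArg (fun v => σ v k) h0
        rw [map_sum σ, map_zero σ, Finset.sum_apply] at h1
        simp only [LinearMap.map_smul, Pi.smul_apply, Pi.zero_apply, smul_eq_mul, ← hd, ← map_mul] at h1
        rw [← map_sum] at h1
        exact h1
      have hu : IsUnit (al (t' * q)) :=
        IsLocalization.map_units L (⟨t' * q, p.primeCompl.mul_mem ht' hq⟩ : p.primeCompl)
      intro j
      refine (Ideal.unit_mul_mem_iff_mem J hu).mp ?_
      have : al (t' * q) * Matrix.vecMul a E j = ∑ k, al (∑ i, t' * α i * d i k) * c k j := by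
        simp only [Matrix.vecMul, dotProduct, E, Matrix.of_apply, map_sum, map_mul, Finset.sum_mul,
          Finset.mul_sum]
        rw [Finset.sum_comm]
        refine Finset.sum_congr rfl fun k _ => Finset.sum_congr rfl fun i _ => ?_
        rw [hα i, Algebra.smul_def]
        simp [hal]
        ring
      rw [this]
      exact Ideal.sum_mem _ fun k _ => Ideal.mul_mem_right _ _ (hk k)
    intro i
    have h1 : Matrix.vecMul (Matrix.vecMul a E) E⁻¹ i = a i := by
      rw [Matrix.vecMul_vecMul, Matrix.mul_nonsing_inv E hdet, Matrix.vecMul_one]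
    rw [← h1]
    show ∑ j, Matrix.vecMul a E j * E⁻¹ j i ∈ _
    exact Ideal.sum_mem _ fun j _ => Ideal.mul_mem_right _ _ (haE j)
  have hW : WReg (al ∘ x) := by
    refine wReg_of_pdLE t.card L (al ∘ x)
      (fun i => hJm (hspanx ▸ Ideal.subset_span ⟨i, rfl⟩)) hind n ?_
    rw [hspanx]
    exact pdLE_map_localization p.primeCompl I n hpd
  -- spreading out
  have hcol : ∀ i : Fin t.card, ∃ u ∉ p, ∀ z, z * x i ∈ Ideal.span (x '' Set.Iio i) →
      u * z ∈ Ideal.span (x '' Set.Iio i) := by
    intro i
    obtain ⟨u, hu, hu'⟩ := exists_common_multiplier p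
      ((Ideal.span (x '' Set.Iio i)).colon {x i}) (Ideal.span (x '' Set.Iio i)) fun z hz => by
        rw [Submodule.mem_colon_singleton, smul_eq_mul] at hz
        refine exists_of_mem_map p _ ?_
        rw [← span_image_Iio_map]
        refine hW i _ ?_
        rw [span_image_Iio_map, Function.comp_apply, mul_comm, ← map_mul]
        exact Ideal.mem_map_of_mem al hz
    exact ⟨u, hu, fun z hz => hu' z (by rwa [Submodule.mem_colon_singleton, smul_eq_mul])⟩
  choose u hu hu' using hcol
  obtain ⟨v, hv, hv'⟩ := exists_common_multiplier p I (Ideal.span (Set.range x)) fun z hz => by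
    refine exists_of_mem_map p _ ?_
    rw [Ideal.map_span, ← Set.range_comp, hspanx]
    exact Ideal.mem_map_of_mem _ hz
  let g := v * ∏ i, u i
  have hg : g ∉ p := p.primeCompl.mul_mem hv (prod_mem fun i _ => hu i)
  refine ⟨g, hg, List.ofFn (algebraMap R (Localization.Away g) ∘ x), ?_⟩
  have hmap : Ideal.ofList (List.ofFn (algebraMap R (Localization.Away g) ∘ x)) =
      I.map (algebraMap R (Localization.Away g)) := by
    have h1 : Ideal.ofList (List.ofFn (algebraMap R (Localization.Away g) ∘ x)) =
        (Ideal.span (Set.range x)).map (algebraMap R (Localization.Away g)) := by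
      rw [Ideal.map_span, ← Set.range_comp, Ideal.ofList]
      congr 1
      ext w
      simp only [Set.mem_ofPred_eq, List.mem_ofFn, Set.mem_range]
    rw [h1]
    refine le_antisymm (Ideal.map_mono (Ideal.span_le.mpr (by rintro _ ⟨i, rfl⟩; exact hxI i))) ?_
    refine Ideal.map_le_iff_le_comap.mpr fun z hz => ?_
    rw [Ideal.mem_comap, IsLocalization.algebraMap_mem_map_algebraMap_iff (Submonoid.powers g)]
    exact ⟨g, Submonoid.mem_powers g, by
      rw [show g * z = (∏ i, u i) * (v * z) by ring]
      exact Ideal.mul_mem_left _ _ (hv' z hz)⟩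
  refine ⟨⟨(wReg_iff _).mp ?_, ?_⟩, hmap⟩
  · intro i y hy
    rw [span_image_Iio_map] at hy ⊢
    obtain ⟨z, s', rfl⟩ := IsLocalization.exists_mk'_eq (Submonoid.powers g) y
    rw [Function.comp_apply, IsLocalization.mul_mk'_eq_mk'_of_mul,
      IsLocalization.mk'_mem_map_algebraMap_iff] at hy
    rw [IsLocalization.mk'_mem_map_algebraMap_iff]
    obtain ⟨w, ⟨k, rfl⟩, hw⟩ := hy
    refine ⟨g ^ (k + 1), ⟨k + 1, rfl⟩, ?_⟩
    have h1 : u i * (g ^ k * z) ∈ Ideal.span (x '' Set.Iio i) :=
      hu' i _ (by rw [show g ^ k * z * x i = g ^ k * (x i * z) by ring]; exact hw)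
    rw [show g ^ (k + 1) * z = (v * ∏ j ∈ Finset.univ.erase i, u j) * (u i * (g ^ k * z)) by
      rw [pow_succ, show g = v * (u i * ∏ j ∈ Finset.univ.erase i, u j) by
        simp only [g, Finset.mul_prod_erase _ _ (Finset.mem_univ i)]]
      ring]
    exact Ideal.mul_mem_left _ _ h1
  · rw [smul_eq_mul, Ideal.mul_top, hmap]
    intro h
    have h1 : (1 : Localization.Away g) ∈ I.map (algebraMap R (Localization.Away g)) := h ▸ Submodule.mem_top
    rw [← map_one (algebraMap R (Localization.Away g)),
      IsLocalization.algebraMap_mem_map_algebraMap_iff (Submonoid.powers g)] at h1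
    obtain ⟨w, ⟨k, rfl⟩, hw⟩ := h1
    exact hg (Ideal.IsPrime.mem_of_pow_mem inferInstance k (hIp (by simpa using hw)))

end Groth.Agent.RegIdeal
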