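import Groth.Agent.RegIdeal.Seq
import Mathlib.LinearAlgebra.Dimension.Finrank

/-!
Quasi-regular generators versus bases of the conormal module.
-/

set_option autoImplicit false
universe u

namespace Groth.Agent.RegIdeal

open IsLocalRing

variable {A : Type u} [CommRing A] (I : Ideal A)

theorem cotangent_sum {m : ℕ} (f : Fin m → I) (c : Fin m → A) :
    ∑ i, Ideal.Quotient.mk I (c i) • I.toCotangent (f i) = I.toCotangent (∑ i, c i • f i) := by
  simp only [map_sum, map_smul]
  exact Finset.sum_congr rfl fun i _ => algebraMap_smul (A ⧸ I) (c i) _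

theorem linearIndependent_toCotangent_iff {m : ℕ} (f : Fin m → I) :
    LinearIndependent (A ⧸ I) (fun i => I.toCotangent (f i)) ↔
      ∀ c : Fin m → A, ∑ i, c i * (f i : A) ∈ I ^ 2 → ∀ i, c i ∈ I := by
  rw [Fintype.linearIndependent_iff]
  constructor
  · intro h c hc i
    refine Ideal.Quotient.eq_zero_iff_mem.mp (h (fun i => Ideal.Quotient.mk I (c i)) ?_ i)
    rw [cotangent_sum, Ideal.toCotangent_eq_zero]
    simpa [smul_eq_mul] using hc
  · intro h c hc i
    choose d hd using fun i => Ideal.Quotient.mk_surjective (c i)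
    have hc' : ∑ i, Ideal.Quotient.mk I (d i) • I.toCotangent (f i) = 0 := by
      simpa only [hd] using hc
    rw [cotangent_sum, Ideal.toCotangent_eq_zero] at hc'
    rw [← hd i, Ideal.Quotient.eq_zero_iff_mem]
    exact h d (by simpa [smul_eq_mul] using hc') i

theorem span_toCotangent_eq_top {m : ℕ} (f : Fin m → I)
    (h : Ideal.span (Set.range fun i => (f i : A)) = I) :
    Submodule.span (A ⧸ I) (Set.range fun i => I.toCotangent (f i)) = ⊤ := by
  rw [eq_top_iff]
  intro x _
  obtain ⟨⟨y, hy⟩, rfl⟩ := I.toCotangent_surjective x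
  obtain ⟨c, hc⟩ := (Submodule.mem_span_range_iff_exists_fun A).mp (h.symm ▸ hy :
    y ∈ Ideal.span (Set.range fun i => (f i : A)))
  have : (⟨y, hy⟩ : I) = ∑ i, c i • f i := Subtype.ext (by simpa [smul_eq_mul] using hc.symm)
  rw [this, ← cotangent_sum]
  exact Submodule.sum_mem _ fun i _ => Submodule.smul_mem _ _ (Submodule.subset_span ⟨i, rfl⟩)

theorem span_eq_of_span_toCotangent [IsLocalRing A] (hI : I ≤ maximalIdeal A) (hfg : I.FG) {m : ℕ}
    (f : Fin m → I) (h : Submodule.span (A ⧸ I) (Set.range fun i => I.toCotangent (f i)) = ⊤) :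
    Ideal.span (Set.range fun i => (f i : A)) = I := by
  refine le_antisymm (Ideal.span_le.mpr (by rintro _ ⟨i, rfl⟩; exact (f i).2)) ?_
  refine Submodule.le_of_le_smul_of_le_jacobson_bot hfg
    (hI.trans (IsLocalRing.maximalIdeal_le_jacobson _)) fun y hy => ?_
  obtain ⟨c, hc⟩ := (Submodule.mem_span_range_iff_exists_fun (A ⧸ I)).mp
    (h.symm ▸ Submodule.mem_top : I.toCotangent ⟨y, hy⟩ ∈ _)
  choose d hd using fun i => Ideal.Quotient.mk_surjective (c i)
  have hc' : ∑ i, Ideal.Quotient.mk I (d i) • I.toCotangent (f i) = I.toCotangent ⟨y, hy⟩ := by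
    simpa only [hd] using hc
  rw [cotangent_sum, Ideal.toCotangent_eq, ← neg_mem_iff] at hc'
  have hsum : ∑ i, d i * (f i : A) ∈ Ideal.span (Set.range fun i => (f i : A)) :=
    Ideal.sum_mem _ fun i _ => Ideal.mul_mem_left _ _ (Ideal.subset_span ⟨i, rfl⟩)
  refine Submodule.mem_sup.mpr ⟨_, hsum, y - ∑ i, d i * (f i : A), ?_, by ring⟩
  rw [smul_eq_mul, ← pow_two]
  simpa [smul_eq_mul] using hc'

theorem quasiRegular_iff_basis [IsLocalRing A] (hI : I ≤ maximalIdeal A)
    (hq : ∃ (r : ℕ) (g : Fin r → A), CAlgX.IsQuasiRegular g ∧ Ideal.span (Set.range g) = I)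
    {m : ℕ} (f : Fin m → I) :
    (CAlgX.IsQuasiRegular (fun i => (f i : A)) ∧ Ideal.span (Set.range fun i => (f i : A)) = I) ↔
      (LinearIndependent (A ⧸ I) (fun i => I.toCotangent (f i)) ∧
        Submodule.span (A ⧸ I) (Set.range fun i => I.toCotangent (f i)) = ⊤) := by
  obtain ⟨r, g, hg, hgI⟩ := hq
  haveI : Nontrivial (A ⧸ I) := Ideal.Quotient.nontrivial_iff.mpr
    (ne_top_of_le_ne_top (maximalIdeal.isMaximal A).ne_top hI)
  constructor
  · rintro ⟨hf, hfI⟩
    refine ⟨(linearIndependent_toCotangent_iff I f).mpr fun c hc i => ?_,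
      span_toCotangent_eq_top I f hfI⟩
    have := coeff_mem_of_sum_eq_zero hf c (by rw [hfI]; exact hc) i
    rwa [hfI] at this
  · rintro ⟨hli, hsp⟩
    have hfg : I.FG := hgI ▸ Submodule.fg_span (Set.finite_range g)
    have hfI := span_eq_of_span_toCotangent I hI hfg f hsp
    let g' : Fin r → I := fun i => ⟨g i, hgI ▸ Ideal.subset_span ⟨i, rfl⟩⟩
    have hli' : LinearIndependent (A ⧸ I) fun i => I.toCotangent (g' i) :=
      (linearIndependent_toCotangent_iff I g').mpr fun c hc i =>
        hgI ▸ coeff_mem_of_sum_eq_zero hg c (by rw [hgI]; exact hc) i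
    have hcard : m = r := by
      have h1 := Module.finrank_eq_card_basis (Module.Basis.mk hli hsp.ge)
      have h2 := Module.finrank_eq_card_basis (Module.Basis.mk hli'
        (span_toCotangent_eq_top I g' hgI).ge)
      simpa using h1.symm.trans h2
    subst hcard
    exact ⟨isQuasiRegular_of_span_eq g _ hg (hfI.trans hgI.symm), hfI⟩

end Groth.Agent.RegIdeal
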