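import Groth.Agent.RegIdeal.FreeSummand
import Mathlib.RingTheory.Regular.RegularSequence

/-!
A free direct summand of the conormal module of an ideal of finite projective dimension is generated
by the classes of a regular sequence.
-/

set_option autoImplicit false
universe u

namespace Groth.Agent.RegIdeal

open IsLocalRing
open Groth.Agent.SerreReg (PdLE)
open RingTheory.Sequence

variable {A : Type u} [CommRing A]

/-- Dividing by a nonzerodivisor which spans a complemented line in the conormal module keeps the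
projective dimension finite. -/
theorem pdLE_quot_of_compl [IsLocalRing A] [IsNoetherianRing A] {I W : Ideal A} {x : A}
    (hx : ∀ y, x * y = 0 → y = 0) (hI : I = Ideal.span {x} ⊔ W) (hW : I ^ 2 ≤ W)
    (hind : ∀ t, t * x ∈ W → t ∈ I) {n : ℕ} (hpd : PdLE A I n) :
    PdLE (A ⧸ Ideal.span {x}) (I.map (Ideal.Quotient.mk (Ideal.span {x}))) n := by
  let S := A ⧸ Ideal.span {x}
  set I' : Ideal S := I.map (Ideal.Quotient.mk (Ideal.span {x}))
  have hS : Function.Surjective (algebraMap A S) := Ideal.Quotient.mk_surjective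
  have hxI : x ∈ I := hI ▸ Ideal.mem_sup_left (Ideal.mem_span_singleton_self x)
  have hWI : W ≤ I := hI ▸ le_sup_right
  let Q := I ⧸ Ideal.span {x} • (⊤ : Submodule A I)
  have hregA : IsSMulRegular A x := fun m m' hm => sub_eq_zero.mp (hx _ (by
    rw [mul_sub, sub_eq_zero]
    exact hm))
  have hregI : IsSMulRegular I x := fun m m' hm =>
    Subtype.ext (hregA (congrArg Subtype.val hm))
  have hQ : PdLE S Q n := Groth.Agent.SerreReg.pdLE_modX hS
    (Groth.Agent.SerreReg.mk_eq_zero_iff_dvd x) hregA n I Q (Submodule.mkQ _)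
    (Submodule.mkQ_surjective _) (Groth.Agent.SerreReg.mem_span_smul_top_iff x) hregI hpd
  let pI : I →ₗ[A] I' :=
    ((Algebra.linearMap A S) ∘ₗ I.subtype).codRestrict (I'.restrictScalars A) fun v => by
      show Ideal.Quotient.mk (Ideal.span {x}) (v : A) ∈ I'
      exact Ideal.mem_map_of_mem _ v.2
  have hpI : ∀ v : I, ((pI v : I') : S) = Ideal.Quotient.mk (Ideal.span {x}) (v : A) :=
    fun v => rfl
  let p : Q →ₗ[A] I' := (Ideal.span {x} • (⊤ : Submodule A I)).liftQ pI (by
    rw [Submodule.smul_le]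
    intro c hc v _
    rw [LinearMap.mem_ker]
    refine Subtype.ext ?_
    rw [hpI, ZeroMemClass.coe_zero, Ideal.Quotient.eq_zero_iff_mem]
    exact Ideal.mul_mem_right _ _ hc)
  let Wsub : Submodule A I := Submodule.comap I.subtype W
  let φ : Wsub →ₗ[A] I' := pI ∘ₗ Wsub.subtype
  have hφs : Function.Surjective φ := by
    rintro ⟨v, hv⟩
    obtain ⟨j, hj, hjv⟩ := (Ideal.mem_map_iff_of_surjective _ Ideal.Quotient.mk_surjective).mp hv
    rw [hI] at hj
    obtain ⟨c, hc, w, hw, rfl⟩ := Submodule.mem_sup.mp hj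
    refine ⟨⟨⟨w, hWI hw⟩, hw⟩, Subtype.ext ?_⟩
    show Ideal.Quotient.mk _ w = v
    rw [← hjv, map_add, Ideal.Quotient.eq_zero_iff_mem.2 hc, zero_add]
  let ψ : Wsub →ₗ[A] Q := Submodule.mkQ _ ∘ₗ Wsub.subtype
  have hker : LinearMap.ker φ ≤ LinearMap.ker ψ := by
    intro w hw
    have hw0 : Ideal.Quotient.mk (Ideal.span {x}) ((w : I) : A) = 0 :=
      congrArg Subtype.val (LinearMap.mem_ker.mp hw)
    obtain ⟨t, ht⟩ := Ideal.mem_span_singleton'.mp (Ideal.Quotient.eq_zero_iff_mem.mp hw0)
    rw [LinearMap.mem_ker]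
    refine (Submodule.Quotient.mk_eq_zero _).mpr ?_
    show (w : I) ∈ _
    rw [Submodule.ideal_span_singleton_smul, Submodule.mem_smul_pointwise_iff_exists]
    exact ⟨⟨t, hind t (ht ▸ w.2)⟩, Submodule.mem_top, Subtype.ext (by
      show x * t = _
      rw [mul_comm, ht])⟩
  let s : I' →ₗ[A] Q := (LinearMap.ker φ).liftQ ψ hker ∘ₗ
    (φ.quotKerEquivOfSurjective hφs).symm.toLinearMap
  have hps : p ∘ₗ s = LinearMap.id := by
    refine LinearMap.ext fun v => ?_
    obtain ⟨w, rfl⟩ := hφs v
    have e : (φ.quotKerEquivOfSurjective hφs).symm (φ w) = Submodule.Quotient.mk w := by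
      rw [LinearEquiv.symm_apply_eq, LinearMap.quotKerEquivOfSurjective_apply_mk]
    simp only [s, LinearMap.comp_apply, LinearEquiv.coe_coe, e, LinearMap.id_apply]
    rfl
  refine Groth.Agent.SerreReg.pdLE_of_retract (LinearMap.extendScalarsOfSurjective hS s)
    (LinearMap.extendScalarsOfSurjective hS p) (LinearMap.ext fun v => ?_) hQ
  exact LinearMap.congr_fun hps v

/-- The inductive statement, in terms of ideals. -/
theorem exists_regular_of_indep : ∀ (r : ℕ) (A : Type u) [CommRing A] [IsLocalRing A]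
    [IsNoetherianRing A] (I K : Ideal A) (y : Fin r → A), I ≠ ⊤ → (∀ i, y i ∈ I) → K ≤ I →
    I ^ 2 ≤ K → I = Ideal.span (Set.range y) ⊔ K →
    (∀ a : Fin r → A, ∑ i, a i * y i ∈ K → ∀ i, a i ∈ I) → ∀ n : ℕ, PdLE A I n →
    ∃ x : Fin r → A, (∀ i, x i ∈ I) ∧ IsWeaklyRegular A (List.ofFn x) ∧
      Ideal.span (Set.range x) ⊔ I ^ 2 = Ideal.span (Set.range y) ⊔ I ^ 2 := by
  intro r
  induction r with
  | zero =>
    intro A _ _ _ I K y _ _ _ _ _ _ n _
    exact ⟨y, fun i => i.elim0, by simp, rfl⟩
  | succ r ih =>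
    intro A _ _ _ I K y hI hy hKI hIK hdec hind n hpd
    classical
    have hann : ∀ t, t * y 0 = 0 → t ∈ I := by
      intro t ht
      have := hind (Pi.single 0 t) (by
        rw [Finset.sum_eq_single (0 : Fin (r + 1)) (fun i _ hi => by simp [hi]) (by simp),
          Pi.single_eq_same, ht]
        exact zero_mem _) 0
      rwa [Pi.single_eq_same] at this
    let fs : Finset (PrimeSpectrum A) := (associatedPrimes.finite A A).toFinset.attach.image
      fun P => ⟨P.1, ((associatedPrimes.finite A A).mem_toFinset.1 P.2).isPrime⟩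
    obtain ⟨k, hk, hks⟩ := coset_avoid (I ^ 2) (y 0) fs fun p hp _ => by
      obtain ⟨P, -, rfl⟩ := Finset.mem_image.1 hp
      by_contra hne
      push Not at hne
      exact not_le_associatedPrime hpd (hy 0) hann ((associatedPrimes.finite A A).mem_toFinset.1 P.2)
        (((associatedPrimes.finite A A).mem_toFinset.1 P.2).isPrime.le_of_pow_le hne)
    set x₀ := y 0 + k with hx₀def
    have hx₀I : x₀ ∈ I := add_mem (hy 0) (Ideal.pow_le_self two_ne_zero hk)
    have hx₀ : x₀ ∈ nonZeroDivisors A := by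
      by_contra hnz
      have hmem : x₀ ∈ ⋃ P ∈ associatedPrimes A A, (P : Set A) := by
        rw [biUnion_associatedPrimes_eq_compl_nonZeroDivisors]
        exact hnz
      obtain ⟨P, hP, hxP⟩ := Set.mem_iUnion₂.mp hmem
      exact hks ⟨P, hP.isPrime⟩ (Finset.mem_image.2
        ⟨⟨P, (associatedPrimes.finite A A).mem_toFinset.2 hP⟩, Finset.mem_attach _ _, rfl⟩) hxP
    have hx₀0 : ∀ v, x₀ * v = 0 → v = 0 := fun v hv =>
      (mem_nonZeroDivisors_iff_right.mp hx₀) v (by rwa [mul_comm])
    set y' : Fin r → A := fun j => y j.succ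
    set W : Ideal A := Ideal.span (Set.range y') ⊔ K with hWdef
    have hkK : k ∈ K := hIK hk
    have hindW : ∀ (t : A) (b : Fin r → A), t * x₀ + ∑ j, b j * y' j ∈ K →
        t ∈ I ∧ ∀ j, b j ∈ I := by
      intro t b h
      have h1 : ∑ i, (Fin.cons t b : Fin (r + 1) → A) i * y i ∈ K := by
        rw [Fin.sum_univ_succ, Fin.cons_zero]
        simp only [Fin.cons_succ]
        have h2 := sub_mem h (K.mul_mem_left t hkK)
        rwa [show t * x₀ + ∑ j, b j * y' j - t * k = t * y 0 + ∑ j, b j * y j.succ by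
          rw [hx₀def]; ring] at h2
      refine ⟨?_, fun j => ?_⟩
      · simpa using hind _ h1 0
      · simpa using hind _ h1 j.succ
    have hIW : I = Ideal.span {x₀} ⊔ W := by
      refine le_antisymm ?_ (sup_le ((Ideal.span_singleton_le_iff_mem _).2 hx₀I)
        (sup_le (Ideal.span_le.2 (by rintro _ ⟨j, rfl⟩; exact hy j.succ)) hKI))
      conv_lhs => rw [hdec]
      refine sup_le (Ideal.span_le.2 ?_) (le_sup_right.trans le_sup_right)
      rintro _ ⟨i, rfl⟩
      cases i using Fin.cases with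
      | zero =>
        rw [SetLike.mem_coe, show y 0 = x₀ - k by rw [hx₀def]; ring]
        exact sub_mem (Ideal.mem_sup_left (Ideal.mem_span_singleton_self _))
          (Ideal.mem_sup_right (Ideal.mem_sup_right hkK))
      | succ j => exact Ideal.mem_sup_right (Ideal.mem_sup_left (Ideal.subset_span ⟨j, rfl⟩))
    have hWind : ∀ t, t * x₀ ∈ W → t ∈ I := by
      intro t ht
      obtain ⟨w, hw, q, hq, hwq⟩ := Submodule.mem_sup.mp ht
      obtain ⟨b, rfl⟩ := (Submodule.mem_span_range_iff_exists_fun A).mp hw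
      refine (hindW t (fun j => -b j) ?_).1
      simp only [neg_mul, Finset.sum_neg_distrib, ← hwq, smul_eq_mul]
      rw [show ∑ j, b j * y' j + q + -∑ j, b j * y' j = q by ring]
      exact hq
    have hxm : x₀ ∈ maximalIdeal A := IsLocalRing.le_maximalIdeal hI hx₀I
    let π := Ideal.Quotient.mk (Ideal.span {x₀})
    haveI : IsLocalRing (A ⧸ Ideal.span {x₀}) := Groth.Agent.SerreReg.isLocalRing_quot hxm
    have hle : Ideal.span {x₀} ≤ I := (Ideal.span_singleton_le_iff_mem _).2 hx₀I
    have hcomapI : (I.map π).comap π = I := by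
      rw [Ideal.comap_map_of_surjective' π Ideal.Quotient.mk_surjective, Ideal.mk_ker,
        sup_eq_left.mpr hle]
    obtain ⟨x', hx', hreg', hspan'⟩ := ih (A ⧸ Ideal.span {x₀}) (I.map π) (K.map π)
      (fun j => π (y' j))
      (fun h => hI (by rw [← hcomapI, h, Ideal.comap_top]))
      (fun j => Ideal.mem_map_of_mem π (hy j.succ))
      (Ideal.map_mono hKI) (by rw [← Ideal.map_pow]; exact Ideal.map_mono hIK)
      (by
        conv_lhs => rw [hIW]
        rw [Ideal.map_sup, Ideal.map_quotient_self, bot_sup_eq, hWdef, Ideal.map_sup,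
          Ideal.map_span, ← Set.range_comp]
        rfl)
      (by
        intro a ha j
        choose b hb using fun i => Ideal.Quotient.mk_surjective (a i)
        have hsum : π (∑ i, b i * y' i) ∈ K.map π := by
          simpa [map_sum, hb, π] using ha
        rw [Ideal.mem_map_iff_of_surjective _ Ideal.Quotient.mk_surjective] at hsum
        obtain ⟨q, hq, hqe⟩ := hsum
        obtain ⟨t, ht⟩ := Ideal.mem_span_singleton'.mp (Ideal.Quotient.eq.mp hqe)
        have h1 := (hindW t b (by rw [ht, sub_add_cancel]; exact hq)).2 j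
        rw [← hb j]
        exact Ideal.mem_map_of_mem π h1)
      n (pdLE_quot_of_compl hx₀0 hIW (hIK.trans le_sup_right) hWind hpd)
    choose z hz using fun j => Ideal.Quotient.mk_surjective (x' j)
    have hzI : ∀ j, z j ∈ I := fun j => by
      rw [← hcomapI, Ideal.mem_comap]
      show π (z j) ∈ _
      rw [show π (z j) = x' j from hz j]
      exact hx' j
    refine ⟨Fin.cons x₀ z, Fin.cases hx₀I hzI, ?_, ?_⟩
    · rw [List.ofFn_succ, Fin.cons_zero]
      simp only [Fin.cons_succ]
      refine IsWeaklyRegular.cons (isSMulRegular_iff_right_eq_zero_of_smul.2 hx₀0) ?_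
      let e : QuotSMulTop x₀ A ≃ₗ[A] (A ⧸ Ideal.span {x₀}) :=
        Submodule.quotEquivOfEq _ _ (by
          rw [← Submodule.ideal_span_singleton_smul, smul_eq_mul, Ideal.mul_top])
      rw [e.isWeaklyRegular_congr,
        ← isWeaklyRegular_map_algebraMap_iff (S := A ⧸ Ideal.span {x₀}), List.map_ofFn]
      rw [show (algebraMap A (A ⧸ Ideal.span {x₀})) ∘ z = x' from funext hz]
      exact hreg'
    · have hmapx : (Ideal.span (Set.range z)).map π = Ideal.span (Set.range x') := by
        rw [Ideal.map_span, ← Set.range_comp, show (π ∘ z) = x' from funext hz]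
      have hmapy : (Ideal.span (Set.range y')).map π = Ideal.span (Set.range fun j => π (y' j)) := by
        rw [Ideal.map_span, ← Set.range_comp]
        rfl
      have h3 := congrArg (Ideal.comap π) hspan'
      rw [← hmapx, ← hmapy, ← Ideal.map_pow, ← Ideal.map_sup, ← Ideal.map_sup,
        Ideal.comap_map_of_surjective' π Ideal.Quotient.mk_surjective,
        Ideal.comap_map_of_surjective' π Ideal.Quotient.mk_surjective, Ideal.mk_ker] at h3
      have h4 : Ideal.span (Set.range y) ⊔ I ^ 2 =
          Ideal.span (Set.range y') ⊔ I ^ 2 ⊔ Ideal.span {x₀} := by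
        apply le_antisymm
        · refine sup_le (Ideal.span_le.2 ?_) (le_sup_right.trans le_sup_left)
          rintro _ ⟨i, rfl⟩
          cases i using Fin.cases with
          | zero =>
            rw [SetLike.mem_coe, show y 0 = x₀ - k by rw [hx₀def]; ring]
            exact sub_mem (Ideal.mem_sup_right (Ideal.mem_span_singleton_self _))
              (Ideal.mem_sup_left (Ideal.mem_sup_right hk))
          | succ j => exact Ideal.mem_sup_left (Ideal.mem_sup_left (Ideal.subset_span ⟨j, rfl⟩))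
        · refine sup_le (sup_le (le_sup_of_le_left (Ideal.span_mono ?_)) le_sup_right)
            ((Ideal.span_singleton_le_iff_mem _).2 ?_)
          · rintro _ ⟨j, rfl⟩; exact ⟨j.succ, rfl⟩
          · exact add_mem (Ideal.mem_sup_left (Ideal.subset_span ⟨0, rfl⟩)) (Ideal.mem_sup_right hk)
      rw [h4, ← h3, Fin.range_cons, Ideal.span_insert]
      ac_rfl

theorem exists_regularSeq_of_summand {R : Type u} [CommRing R] [IsNoetherianRing R] [IsLocalRing R]
    (I : Ideal R) (hI : I ≠ ⊤) {n : ℕ} (hpd : PdLE R I n) (F G : Submodule (R ⧸ I) I.Cotangent)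
    (hFG : IsCompl F G) {r : ℕ} (e : F ≃ₗ[R ⧸ I] (Fin r → R ⧸ I)) :
    ∃ (x : Fin r → R) (hx : ∀ i, x i ∈ I), IsRegular R (List.ofFn x) ∧
      Submodule.span (R ⧸ I) (Set.range fun i => I.toCotangent ⟨x i, hx i⟩) = F := by
  classical
  let b : Module.Basis (Fin r) (R ⧸ I) F := Module.Basis.ofEquivFun e
  choose y hy using fun i => I.toCotangent_surjective (b i : I.Cotangent)
  have hFspan : Submodule.span (R ⧸ I) (Set.range fun i => I.toCotangent (y i)) = F := by
    rw [show (fun i => I.toCotangent (y i)) = Subtype.val ∘ b from funext hy, Set.range_comp,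
      ← Submodule.coe_subtype, Submodule.span_image, b.span_eq, Submodule.map_top,
      Submodule.range_subtype]
  let K' : Submodule R I := (G.restrictScalars R).comap I.toCotangent
  let K : Ideal R := K'.map I.subtype
  have hsmul : ∀ (a : R) (v : I.Cotangent), Ideal.Quotient.mk I a • v = a • v := fun a v => by
    rw [← Ideal.Quotient.algebraMap_eq, algebraMap_smul]
  have hKI : K ≤ I := Submodule.map_subtype_le _ _
  have hIK : I ^ 2 ≤ K := fun v hv =>
    ⟨⟨v, Ideal.pow_le_self two_ne_zero hv⟩, by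
      show I.toCotangent _ ∈ G
      rw [(Ideal.toCotangent_eq_zero _ _).2 hv]
      exact zero_mem _, rfl⟩
  have hmem : ∀ v : I, ∃ a : Fin r → R,
      I.toCotangent v - I.toCotangent (∑ i, a i • y i) ∈ G := by
    intro v
    have hv : I.toCotangent v ∈ F ⊔ G := hFG.sup_eq_top ▸ Submodule.mem_top
    obtain ⟨f, hf, g, hg, hfg⟩ := Submodule.mem_sup.mp hv
    rw [← hFspan, Submodule.mem_span_range_iff_exists_fun] at hf
    obtain ⟨c, rfl⟩ := hf
    choose a ha using fun i => Ideal.Quotient.mk_surjective (c i)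
    refine ⟨a, ?_⟩
    rw [← hfg, map_sum]
    simp only [map_smul, ← hsmul, ha, add_sub_cancel_left]
    exact hg
  have hdec : I = Ideal.span (Set.range fun i => (y i : R)) ⊔ K := by
    refine le_antisymm (fun v hv => ?_) (sup_le (Ideal.span_le.2 (by
      rintro _ ⟨i, rfl⟩; exact (y i).2)) hKI)
    obtain ⟨a, ha⟩ := hmem ⟨v, hv⟩
    rw [← map_sub] at ha
    have h2 : v - ∑ i, a i * (y i : R) ∈ K := ⟨⟨v, hv⟩ - ∑ i, a i • y i, ha, by simp⟩
    have h1 : ∑ i, a i * (y i : R) ∈ Ideal.span (Set.range fun i => (y i : R)) :=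
      Ideal.sum_mem _ fun i _ => Ideal.mul_mem_left _ _ (Ideal.subset_span ⟨i, rfl⟩)
    simpa using add_mem (Ideal.mem_sup_left h1) (Ideal.mem_sup_right h2 :
      v - ∑ i, a i * (y i : R) ∈ Ideal.span (Set.range fun i => (y i : R)) ⊔ K)
  have hind : ∀ a : Fin r → R, ∑ i, a i * (y i : R) ∈ K → ∀ i, a i ∈ I := by
    intro a ha i
    obtain ⟨v, hv, hve⟩ := ha
    have hve' : v = ∑ j, a j • y j := Subtype.ext (by simpa using hve)
    have hG : I.toCotangent v ∈ G := hv
    rw [hve', map_sum] at hG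
    simp only [map_smul, ← hsmul, hy] at hG
    have hF : ∑ j, Ideal.Quotient.mk I (a j) • (b j : I.Cotangent) ∈ F :=
      Submodule.sum_mem _ fun j _ => F.smul_mem _ (b j).2
    have h0 := Submodule.disjoint_def.1 hFG.disjoint _ hF hG
    have h1 : ∑ j, Ideal.Quotient.mk I (a j) • b j = 0 := Subtype.ext (by simpa using h0)
    exact Ideal.Quotient.eq_zero_iff_mem.1
      (Fintype.linearIndependent_iff.1 b.linearIndependent _ h1 i)
  obtain ⟨x, hx, hreg, hspan⟩ := exists_regular_of_indep r R I K (fun i => (y i : R)) hI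
    (fun i => (y i).2) hKI hIK hdec hind n hpd
  refine ⟨x, hx, ?_, ?_⟩
  · refine IsRegular.of_isWeaklyRegular_of_mem_maximalIdeal (L := R) (reg := hreg) (mem := ?_)
    intro v hv
    rw [List.mem_ofFn] at hv
    obtain ⟨i, rfl⟩ := hv
    exact IsLocalRing.le_maximalIdeal hI (hx i)
  · rw [← hFspan]
    have key : ∀ (u w : Fin r → R) (hu : ∀ i, u i ∈ I) (hw : ∀ i, w i ∈ I),
        Ideal.span (Set.range u) ⊔ I ^ 2 ≤ Ideal.span (Set.range w) ⊔ I ^ 2 →
        Submodule.span (R ⧸ I) (Set.range fun i => I.toCotangent ⟨u i, hu i⟩) ≤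
          Submodule.span (R ⧸ I) (Set.range fun i => I.toCotangent ⟨w i, hw i⟩) := by
      intro u w hu hw hle
      rw [Submodule.span_le]
      rintro _ ⟨i, rfl⟩
      obtain ⟨p, hp, q, hq, hpq⟩ :=
        Submodule.mem_sup.mp (hle (Ideal.mem_sup_left (Ideal.subset_span ⟨i, rfl⟩)))
      obtain ⟨c, rfl⟩ := (Submodule.mem_span_range_iff_exists_fun R).mp hp
      have : I.toCotangent ⟨u i, hu i⟩ =
          I.toCotangent (∑ j, c j • (⟨w j, hw j⟩ : I)) := by
        rw [Ideal.toCotangent_eq]
        simp only [← hpq, Submodule.coe_sum, Submodule.coe_smul, add_sub_cancel_left]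
        exact hq
      show I.toCotangent ⟨u i, hu i⟩ ∈ _
      rw [this, map_sum]
      refine Submodule.sum_mem _ fun j _ => ?_
      rw [map_smul, ← hsmul]
      exact Submodule.smul_mem _ _ (Submodule.subset_span ⟨j, rfl⟩)
    exact le_antisymm (key x (fun i => (y i : R)) hx (fun i => (y i).2) hspan.le)
      (key (fun i => (y i : R)) x (fun i => (y i).2) hx hspan.ge)

end Groth.Agent.RegIdeal
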