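import Groth.Agent.RegIdeal.CotBasis
import Groth.Agent.SerreReg.Regular
import Mathlib.Algebra.Category.ModuleCat.Localization
import Mathlib.RingTheory.Localization.Algebra
import Mathlib.RingTheory.Ideal.AssociatedPrime.Finiteness

/-!
An ideal of finite projective dimension with free conormal module is generated by a regular sequence.
-/

set_option autoImplicit false
universe u

namespace Groth.Agent.RegIdeal

open IsLocalRing
open Groth.Agent.SerreReg (PdLE)
open CategoryTheory

/-- The relations of `x` modulo the square of the ideal it generates lie in the ideal. -/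
def Indep {A : Type u} [CommRing A] {r : ℕ} (x : Fin r → A) : Prop :=
  ∀ a : Fin r → A, ∑ i, a i * x i ∈ Ideal.span (Set.range x) ^ 2 →
    ∀ i, a i ∈ Ideal.span (Set.range x)

theorem Indep.of_span_eq {A : Type u} [CommRing A] {r : ℕ} {x y : Fin r → A} (h : Indep x)
    (heq : Ideal.span (Set.range y) = Ideal.span (Set.range x)) : Indep y := by
  classical
  set I := Ideal.span (Set.range x)
  let x' : Fin r → I := fun i => ⟨x i, Ideal.subset_span ⟨i, rfl⟩⟩
  let y' : Fin r → I := fun i => ⟨y i, heq ▸ Ideal.subset_span ⟨i, rfl⟩⟩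
  rcases subsingleton_or_nontrivial (A ⧸ I) with hs | hn
  · intro a _ i
    rw [heq]
    exact Ideal.Quotient.eq_zero_iff_mem.mp (Subsingleton.elim _ _)
  have hb : LinearIndependent (A ⧸ I) fun i => I.toCotangent (x' i) :=
    (linearIndependent_toCotangent_iff I x').mpr h
  let b := Module.Basis.mk hb (span_toCotangent_eq_top I x' rfl).ge
  let φ := b.constr (A ⧸ I) fun i => I.toCotangent (y' i)
  have hsurj : Function.Surjective φ := by
    rw [← LinearMap.range_eq_top, Module.Basis.constr_range]
    exact span_toCotangent_eq_top I y' heq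
  haveI : Module.Finite (A ⧸ I) I.Cotangent := Module.Finite.of_basis b
  have hinj : Function.Injective φ := OrzechProperty.injective_of_surjective_endomorphism φ hsurj
  have hli : LinearIndependent (A ⧸ I) fun i => I.toCotangent (y' i) := by
    have := b.linearIndependent.map' φ (LinearMap.ker_eq_bot.mpr hinj)
    have e : (φ ∘ b) = fun i => I.toCotangent (y' i) := funext fun i => b.constr_basis _ _ i
    rwa [e] at this
  intro a ha i
  rw [heq] at ha ⊢
  exact (linearIndependent_toCotangent_iff I y').mp hli a ha i

theorem pdLE_map_localization {A : Type u} [CommRing A] [IsNoetherianRing A] (S : Submonoid A) (I : Ideal A) (n : ℕ)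
    (h : PdLE A I n) : PdLE (Localization S) (I.map (algebraMap A (Localization S))) n := by
  haveI : HasProjectiveDimensionLE (ModuleCat.of A I) n := h
  have h' := ModuleCat.localizedModule_hasProjectiveDimensionLE n S (ModuleCat.of A I)
  haveI := ModuleCat.localizedModule_isLocalizedModule (ModuleCat.of A I) S
  let e : (ModuleCat.of A I).localizedModule S ≃ₗ[A] (I.map (algebraMap A (Localization S))) :=
    IsLocalizedModule.linearEquiv S ((ModuleCat.of A I).localizedModuleMkLinearMap S)
      (Algebra.idealMap I (S := Localization S))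
  exact Groth.Agent.SerreReg.pdLE_of_equiv
    (LinearEquiv.extendScalarsOfIsLocalization S (Localization S) e) h'

theorem wReg_of_head {A : Type u} [CommRing A] {c : ℕ} (f : Fin (c + 1) → A)
    (h0 : ∀ x, f 0 * x = 0 → x = 0)
    (hW : WReg fun j : Fin c => Ideal.Quotient.mk (Ideal.span {f 0}) (f j.succ)) : WReg f := by
  intro i
  cases i using Fin.cases with
  | zero =>
    intro x hx
    have he : f '' Set.Iio (0 : Fin (c + 1)) = ∅ := by
      rw [Set.image_eq_empty]
      ext j
      simp
    rw [he, Ideal.span_empty, Submodule.mem_bot] at hx ⊢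
    exact h0 x hx
  | succ i =>
    intro x hx
    set π := Ideal.Quotient.mk (Ideal.span {f 0})
    have he : Ideal.span (f '' Set.Iio i.succ) =
        Ideal.span {f 0} ⊔ Ideal.span ((fun j : Fin c => f j.succ) '' Set.Iio i) := by
      rw [← Ideal.span_union]
      congr 1
      ext y
      constructor
      · rintro ⟨j, hj, rfl⟩
        cases j using Fin.cases with
        | zero => exact Or.inl rfl
        | succ j => exact Or.inr ⟨j, Fin.succ_lt_succ_iff.mp hj, rfl⟩
      · rintro (rfl | ⟨j, hj, rfl⟩)
        · exact ⟨0, Fin.succ_pos i, rfl⟩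
        · exact ⟨j.succ, Fin.succ_lt_succ_iff.mpr hj, rfl⟩
    have hmap : (Ideal.span (f '' Set.Iio i.succ)).map π =
        Ideal.span ((fun j : Fin c => π (f j.succ)) '' Set.Iio i) := by
      rw [he, Ideal.map_sup, Ideal.map_quotient_self, bot_sup_eq, Ideal.map_span, ← Set.image_comp]
      rfl
    have hle : Ideal.span {f 0} ≤ Ideal.span (f '' Set.Iio i.succ) := he ▸ le_sup_left
    have hmem : π x ∈ (Ideal.span (f '' Set.Iio i.succ)).map π := by
      rw [hmap]
      refine hW i _ ?_
      rw [← hmap, ← map_mul]
      exact Ideal.mem_map_of_mem π hx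
    have := Ideal.mem_comap.mpr hmem
    rwa [Ideal.comap_map_of_surjective' π Ideal.Quotient.mk_surjective, Ideal.mk_ker,
      sup_eq_left.mpr hle] at this

variable {A : Type u} [CommRing A] [IsLocalRing A] [IsNoetherianRing A]

theorem exists_nonZeroDivisor {r n : ℕ} (x : Fin (r + 1) → A) (hx : ∀ i, x i ∈ maximalIdeal A)
    (hind : Indep x) (hpd : PdLE A (Ideal.span (Set.range x)) n) :
    ∃ z ∈ Ideal.span (Set.range x), z ∉ maximalIdeal A * Ideal.span (Set.range x) ∧
      ∀ y, z * y = 0 → y = 0 := by
  classical
  set I := Ideal.span (Set.range x) with hI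
  have hIm : I ≤ maximalIdeal A := Ideal.span_le.mpr (by rintro _ ⟨i, rfl⟩; exact hx i)
  by_contra hno
  push Not at hno
  have hsub : (I : Set A) ⊆ ⋃ P ∈ associatedPrimes A A ∪ {maximalIdeal A * I}, (P : Set A) := by
    intro z hz
    by_cases hzm : z ∈ maximalIdeal A * I
    · exact Set.mem_biUnion (Set.mem_union_right _ rfl) hzm
    · obtain ⟨y, hy, hy0⟩ := hno z hz hzm
      have hmem : z ∈ ⋃ P ∈ associatedPrimes A A, (P : Set A) := by
        rw [biUnion_associatedPrimes_eq_compl_nonZeroDivisors]
        intro hnz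
        exact hy0 ((mem_nonZeroDivisors_iff_right.mp hnz) y (by rwa [mul_comm]))
      obtain ⟨P, hP, hzP⟩ := Set.mem_iUnion₂.mp hmem
      exact Set.mem_biUnion (Set.mem_union_left _ hP) hzP
  obtain ⟨P, hP, hle⟩ := (Ideal.subset_union_prime_finite (f := id)
    ((associatedPrimes.finite A A).union (Set.finite_singleton _))
    (maximalIdeal A * I) (maximalIdeal A * I) (fun P hP hne _ =>
      ((Set.mem_union _ _ _).mp hP).elim (fun h => h.1) fun h => absurd h hne)).mp hsub
  simp only [id] at hle
  rcases hP with hP | hP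
  · rw [AssociatedPrimes.mem_iff, isAssociatedPrime_iff] at hP
    obtain ⟨hprime, a, ha⟩ := hP
    haveI := hprime
    let L := Localization.AtPrime P
    let J := I.map (algebraMap A L)
    have haP : ∀ t, t ∈ P ↔ t * a = 0 := fun t => by
      rw [ha, Submodule.mem_colon_singleton, Submodule.mem_bot, smul_eq_mul]
    have ha0 : algebraMap A L a ≠ 0 := by
      rw [Ne, IsLocalization.map_eq_zero_iff P.primeCompl]
      rintro ⟨t, ht⟩
      exact t.2 ((haP t).mpr ht)
    have hkill : ∀ v ∈ maximalIdeal L, v * algebraMap A L a = 0 := by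
      intro v hv
      obtain ⟨b, s, rfl⟩ := IsLocalization.exists_mk'_eq P.primeCompl v
      have hb : b ∈ P := (IsLocalization.AtPrime.mk'_mem_maximal_iff L P b s).mp hv
      rw [IsLocalization.mk'_eq_mul_mk'_one, mul_right_comm, ← map_mul, (haP b).mp hb, map_zero,
        zero_mul]
    haveI : Module.Finite L J := Module.Finite.iff_fg.mpr (IsNoetherian.noetherian _)
    haveI : Module.Free L J := Groth.Agent.SerreReg.free_of_pdLE_of_socle ha0 hkill n J
      (pdLE_map_localization P.primeCompl I n hpd)
    have hJ0 : Nontrivial J := by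
      rw [Submodule.nontrivial_iff_ne_bot]
      intro h0
      have hmem : algebraMap A L (x 0) ∈ J := Ideal.mem_map_of_mem _ (Ideal.subset_span ⟨0, rfl⟩)
      rw [h0, Submodule.mem_bot, IsLocalization.map_eq_zero_iff P.primeCompl] at hmem
      obtain ⟨t, ht⟩ := hmem
      refine t.2 (hle ?_)
      have h1 := hind (Pi.single 0 (t : A)) (by
        rw [Finset.sum_eq_single (0 : Fin (r + 1)) (fun i _ hi => by simp [hi]) (by simp),
          Pi.single_eq_same, ht]
        exact zero_mem _) 0
      rwa [Pi.single_eq_same] at h1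
    let b := Module.Free.chooseBasis L J
    obtain ⟨i⟩ := b.index_nonempty
    have hJm : J ≤ maximalIdeal L := (Ideal.map_mono hle).trans
      (le_of_eq (IsLocalization.AtPrime.map_eq_maximalIdeal P L))
    have h0 : algebraMap A L a • b i = 0 := Subtype.ext (by
      change algebraMap A L a * (b i : L) = 0
      rw [mul_comm]
      exact hkill _ (hJm (b i).2))
    have h1 := congrArg (fun v => b.repr v i) h0
    simp only [map_smul, Finsupp.smul_apply, Module.Basis.repr_self, Finsupp.single_eq_same,
      smul_eq_mul, mul_one, map_zero, Finsupp.zero_apply] at h1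
    exact ha0 h1
  · rw [Set.mem_singleton_iff] at hP
    subst hP
    have h0 : x 0 ∈ maximalIdeal A • Submodule.span A (Set.range x) := hle (Ideal.subset_span ⟨0, rfl⟩)
    rw [Submodule.mem_ideal_smul_span_iff_exists_sum] at h0
    obtain ⟨m, hm, hsum⟩ := h0
    rw [Finsupp.sum_fintype _ _ (fun i => zero_smul A (x i))] at hsum
    have h1 := hind (fun i => (if i = 0 then 1 else 0) - m i) (by
      simp only [sub_mul, ite_mul, one_mul, zero_mul, Finset.sum_sub_distrib, Finset.sum_ite_eq',
        Finset.mem_univ, if_true]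
      rw [show ∑ i, m i * x i = x 0 from by simpa [smul_eq_mul] using hsum, sub_self]
      exact zero_mem _) 0
    simp only [if_true] at h1
    exact (maximalIdeal.isMaximal A).ne_top ((Ideal.eq_top_iff_one _).mpr
      (by simpa using add_mem (hIm h1) (hm 0)))

theorem exists_gen_with_head {r : ℕ} (x : Fin (r + 1) → A) {z : A}
    (hz : z ∈ Ideal.span (Set.range x)) (hz' : z ∉ maximalIdeal A * Ideal.span (Set.range x)) :
    ∃ y : Fin (r + 1) → A, y 0 = z ∧ Ideal.span (Set.range y) = Ideal.span (Set.range x) := by
  obtain ⟨rest, hlen, hrest⟩ := exists_insert (K := Ideal.span (Set.range x)) (pre := [])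
    (rest := List.ofFn x) (by
      rw [List.nil_append, Ideal.ofList]
      congr 1
      ext w
      simp only [Set.mem_ofPred_eq, List.mem_ofFn, Set.mem_range]) hz (by simpa using hz')
  rw [List.length_ofFn, Nat.add_right_cancel_iff] at hlen
  subst hlen
  refine ⟨Fin.cons z rest.get, rfl, ?_⟩
  rw [← hrest, List.nil_append, List.singleton_append, Ideal.ofList_cons, Fin.range_cons,
    Ideal.span_insert, Set.range_list_get]

/-- The local theorem. -/
theorem wReg_of_pdLE : ∀ (r : ℕ) (A : Type u) [CommRing A] [IsLocalRing A] [IsNoetherianRing A]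
    (x : Fin r → A), (∀ i, x i ∈ maximalIdeal A) → Indep x → ∀ n : ℕ,
      PdLE A (Ideal.span (Set.range x)) n → WReg x := by
  intro r
  induction r with
  | zero => intro A _ _ _ x _ _ n _ i; exact i.elim0
  | succ r ih =>
    intro A _ _ _ x hx hind n hpd
    classical
    obtain ⟨z, hz, hzm, hz0⟩ := exists_nonZeroDivisor x hx hind hpd
    obtain ⟨y, hy0, hyx⟩ := exists_gen_with_head x hz hzm
    have hIm : Ideal.span (Set.range x) ≤ maximalIdeal A :=
      Ideal.span_le.mpr (by rintro _ ⟨i, rfl⟩; exact hx i)
    have hym : ∀ i, y i ∈ maximalIdeal A := fun i => hIm (hyx ▸ Ideal.subset_span ⟨i, rfl⟩)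
    suffices hWy : WReg y by
      refine wReg_of_isQuasiRegular _ A x (fun i => ?_)
        (isQuasiRegular_of_span_eq y x (isQuasiRegular_of_wReg hWy) hyx.symm)
      rw [IsLocalRing.ringJacobson_eq_maximalIdeal]
      exact hx i
    have hindy := hind.of_span_eq hyx
    subst hy0
    refine wReg_of_head y hz0 ?_
    let S := A ⧸ Ideal.span {y 0}
    haveI : IsLocalRing S := Groth.Agent.SerreReg.isLocalRing_quot (hym 0)
    set x' : Fin r → S := fun j => Ideal.Quotient.mk (Ideal.span {y 0}) (y j.succ) with hx'
    set I' := Ideal.span (Set.range x') with hI'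
    set J2 := Ideal.span (Set.range (y ∘ Fin.succ)) with hJ2
    set I := Ideal.span (Set.range x) with hI
    have hyI : ∀ i, y i ∈ I := fun i => hyx ▸ Ideal.subset_span ⟨i, rfl⟩
    have hmapJ : J2.map (Ideal.Quotient.mk (Ideal.span {y 0})) = I' := by
      rw [hJ2, Ideal.map_span, ← Set.range_comp]; rfl
    have hIdec : I = Ideal.span {y 0} ⊔ J2 := by
      rw [← hyx, hJ2, ← Ideal.span_union]
      congr 1
      conv_lhs => rw [← Fin.cons_self_tail y, Fin.range_cons]
      rw [Set.singleton_union]
      rfl
    have hmapI : I.map (Ideal.Quotient.mk (Ideal.span {y 0})) = I' := by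
      rw [hIdec, Ideal.map_sup, Ideal.map_quotient_self, bot_sup_eq, hmapJ]
    refine ih S x' (fun j => ?_) ?_ n ?_
    · have hloc : IsLocalHom (Ideal.Quotient.mk (Ideal.span {y 0})) :=
        IsLocalHom.of_surjective _ Ideal.Quotient.mk_surjective
      exact IsLocalRing.map_maximalIdeal_of_surjective (Ideal.Quotient.mk (Ideal.span {y 0}))
        Ideal.Quotient.mk_surjective ▸ Ideal.mem_map_of_mem _ (hym j.succ)
    · intro a ha j
      choose b hb using fun i => Ideal.Quotient.mk_surjective (a i)
      have hsum : Ideal.Quotient.mk (Ideal.span {y 0}) (∑ i, b i * y i.succ) ∈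
          (I ^ 2).map (Ideal.Quotient.mk (Ideal.span {y 0})) := by
        rw [Ideal.map_pow, hmapI]
        simpa [map_sum, hb, hx'] using ha
      rw [Ideal.mem_map_iff_of_surjective _ Ideal.Quotient.mk_surjective] at hsum
      obtain ⟨w, hw, hwe⟩ := hsum
      obtain ⟨t, ht⟩ := Ideal.mem_span_singleton'.mp (Ideal.Quotient.eq.mp hwe)
      have h1 := hindy (Fin.cons t b) (by
        rw [hyx, Fin.sum_univ_succ, Fin.cons_zero]
        simp only [Fin.cons_succ]
        rw [ht, sub_add_cancel]
        exact hw) j.succ
      rw [Fin.cons_succ, hyx] at h1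
      rw [← hb j, ← hI', ← hmapI]
      exact Ideal.mem_map_of_mem _ h1
    · -- projective dimension of the image
      have hS : Function.Surjective (algebraMap A S) := Ideal.Quotient.mk_surjective
      let Q := I ⧸ Ideal.span {y 0} • (⊤ : Submodule A I)
      have hregA : IsSMulRegular A (y 0) := fun m m' hm => sub_eq_zero.mp (hz0 _ (by
        rw [mul_sub, sub_eq_zero]
        exact hm))
      have hregI : IsSMulRegular I (y 0) := fun m m' hm =>
        Subtype.ext (hregA (congrArg Subtype.val hm))
      have hQ : PdLE S Q n := Groth.Agent.SerreReg.pdLE_modX hS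
        (Groth.Agent.SerreReg.mk_eq_zero_iff_dvd (y 0)) hregA n I Q (Submodule.mkQ _)
        (Submodule.mkQ_surjective _) (Groth.Agent.SerreReg.mem_span_smul_top_iff (y 0)) hregI hpd
      let pI : I →ₗ[A] I' :=
        ((Algebra.linearMap A S) ∘ₗ I.subtype).codRestrict (I'.restrictScalars A) fun v => by
          show Ideal.Quotient.mk (Ideal.span {y 0}) (v : A) ∈ I'
          exact hmapI ▸ Ideal.mem_map_of_mem _ v.2
      have hpI : ∀ v : I, ((pI v : I') : S) = Ideal.Quotient.mk (Ideal.span {y 0}) (v : A) :=
        fun v => rfl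
      let p : Q →ₗ[A] I' := (Ideal.span {y 0} • (⊤ : Submodule A I)).liftQ pI (by
        rw [Submodule.smul_le]
        intro c hc v _
        rw [LinearMap.mem_ker]
        refine Subtype.ext ?_
        rw [hpI, ZeroMemClass.coe_zero, Ideal.Quotient.eq_zero_iff_mem]
        exact Ideal.mul_mem_right _ _ hc)
      let W : Submodule A I := Submodule.comap I.subtype J2 ⊔ Ideal.span {y 0} • (⊤ : Submodule A I)
      let φ : W →ₗ[A] I' := pI ∘ₗ W.subtype
      have hφs : Function.Surjective φ := by
        rintro ⟨v, hv⟩
        obtain ⟨j, hj, hjv⟩ := (Ideal.mem_map_iff_of_surjective _ Ideal.Quotient.mk_surjective).mp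
          (hmapJ.symm ▸ hv : v ∈ J2.map (Ideal.Quotient.mk (Ideal.span {y 0})))
        exact ⟨⟨⟨j, hIdec ▸ Ideal.mem_sup_right hj⟩,
          Submodule.mem_sup_left (show j ∈ J2 from hj)⟩, Subtype.ext hjv⟩
      let ψ : W →ₗ[A] Q := Submodule.mkQ _ ∘ₗ W.subtype
      have hker : LinearMap.ker φ ≤ LinearMap.ker ψ := by
        intro w hw
        have hw0 : Ideal.Quotient.mk (Ideal.span {y 0}) ((w : I) : A) = 0 :=
          congrArg Subtype.val (LinearMap.mem_ker.mp hw)
        rw [LinearMap.mem_ker]
        refine (Submodule.Quotient.mk_eq_zero _).mpr ?_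
        obtain ⟨j, hj, q, hq, hjq⟩ := Submodule.mem_sup.mp w.2
        obtain ⟨t, ht⟩ := Ideal.mem_span_singleton'.mp (Ideal.Quotient.eq_zero_iff_mem.mp hw0)
        show (w : I) ∈ _
        rw [← hjq]
        refine add_mem ?_ hq
        obtain ⟨b, hb⟩ := (Submodule.mem_span_range_iff_exists_fun A).mp (show (j : A) ∈ J2 from hj)
        obtain ⟨q', hq'⟩ : ∃ q' : I, (q : A) = y 0 * (q' : A) := by
          rw [Submodule.ideal_span_singleton_smul, Submodule.mem_smul_pointwise_iff_exists] at hq
          obtain ⟨q', -, hq'⟩ := hq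
          exact ⟨q', (congrArg Subtype.val hq').symm⟩
        have hjv : (j : A) = y 0 * (t - (q' : A)) := by
          have := congrArg Subtype.val hjq
          rw [Submodule.coe_add, ← ht, hq'] at this
          linear_combination this
        have h1 := hindy (Fin.cons (t - (q' : A)) fun i => -b i) (by
          rw [Fin.sum_univ_succ, Fin.cons_zero]
          simp only [Fin.cons_succ, neg_mul, Finset.sum_neg_distrib]
          rw [show ∑ i, b i * y i.succ = (j : A) by simpa [smul_eq_mul] using hb, hjv,
            mul_comm, add_neg_cancel]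
          exact zero_mem _) 0
        rw [Fin.cons_zero, hyx] at h1
        rw [Submodule.ideal_span_singleton_smul, Submodule.mem_smul_pointwise_iff_exists]
        exact ⟨⟨t - (q' : A), h1⟩, Submodule.mem_top, Subtype.ext hjv.symm⟩
      let s : I' →ₗ[A] Q := (LinearMap.ker φ).liftQ ψ hker ∘ₗ
        (φ.quotKerEquivOfSurjective hφs).symm.toLinearMap
      have hps : p ∘ₗ s = LinearMap.id := by
        refine LinearMap.ext fun v => ?_
        obtain ⟨w, rfl⟩ := hφs v
        have e : (φ.quotKerEquivOfSurjective hφs).symm (φ w) = Submodule.Quotient.mk w := by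
          rw [LinearEquiv.symm_apply_eq, LinearMap.quotKerEquivOfSurjective_apply_mk]
        simp only [s, LinearMap.comp_apply, LinearEquiv.coe_coe, e, LinearMap.id_apply]
        rfl
      refine Groth.Agent.SerreReg.pdLE_of_retract (LinearMap.extendScalarsOfSurjective hS s)
        (LinearMap.extendScalarsOfSurjective hS p) (LinearMap.ext fun v => ?_) hQ
      exact LinearMap.congr_fun hps v

end Groth.Agent.RegIdeal
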